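import Cfsg.Agent.H11.CTI.Permutation
import Cfsg.Agent.H66.FeitPrimePow
import Cfsg.Agent.H66.ZassSuzukiCtx
import Cfsg.Agent.H66.ZassAbelian
import Cfsg.Agent.H67.CAIdent
import Cfsg.Agent.H37.SmallIsoBase

/-!
A non-solvable group with TI centralisers is a simple Zassenhaus group with an elementary abelian
point kernel, hence a `PSL₂(2ⁿ)`.
-/

set_option autoImplicit false
set_option linter.style.haveILetI false
set_option linter.unusedSectionVars false

namespace H11.CTI

open Subgroup MulAction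

universe u

variable {G : Type u} [Group G] [Finite G]

namespace Even'

variable {M : Subgroup G} (h : Even' M)

include h

/-- A non-trivial normal subgroup is the whole group. -/
theorem normal_eq_top (K : Subgroup G) [hKn : K.Normal] (hK : K ≠ ⊥) : K = ⊤ := by
  set N := normalizer (M : Set G) with hN
  obtain ⟨t, htK, ht⟩ := h.even K hKn hK
  have hinv : ∀ s : G, orderOf s = 2 → s ∈ K := by
    intro s hs
    obtain ⟨c, rfl⟩ := isConj_iff.1 (H67.se_isConj h.se ht hs)
    exact hKn.conj_mem t htK c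
  obtain ⟨u, hu, huN⟩ := H67.se_exists_invol_not_mem h.se
  have hDK : D M u ≤ K := by
    intro d hd
    have h1 : u * d * u⁻¹ * d⁻¹ ∈ K := by
      have h2 : u * (d * u⁻¹ * d⁻¹) ∈ K :=
        mul_mem (hinv u hu) (hKn.conj_mem _ (inv_mem (hinv u hu)) d)
      rwa [← mul_assoc, ← mul_assoc] at h2
    rw [(h.D_props hu huN).1 d hd, ← mul_inv_rev, inv_mem_iff] at h1
    obtain ⟨k, hk⟩ := h.odd_D huN hd
    have h3 : (d * d) ^ (k + 1) = d := by
      rw [← sq, ← pow_mul, show 2 * (k + 1) = orderOf d + 1 by omega, pow_succ,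
        pow_orderOf_eq_one, one_mul]
    rw [← h3]
    exact pow_mem h1 _
  haveI : Nontrivial (D M u) := Finite.one_lt_card_iff_nontrivial.1 (h.two_le_card_D hu huN)
  obtain ⟨⟨d, hd⟩, hd1⟩ := exists_ne (1 : D M u)
  have hd1' : d ≠ 1 := fun e => hd1 (Subtype.ext e)
  have hMK : M ≤ K := by
    let f : M → M := fun m => ⟨(m : G) * (d * (m : G)⁻¹ * d⁻¹),
      mul_mem m.2 (h.conj_invol_mem (h.mem_D.1 hd).1 (inv_mem m.2))⟩
    have hf : Function.Injective f := by
      intro a b e
      have e' : (a : G) * (d * (a : G)⁻¹ * d⁻¹) = (b : G) * (d * (b : G)⁻¹ * d⁻¹) :=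
        congrArg Subtype.val e
      by_contra hab
      refine hd1' (h.commute_eq_one huN hd (mul_mem (inv_mem b.2) a.2) ?_
        (fun hc => hab (Subtype.ext (inv_mul_eq_one.1 hc).symm)))
      calc d * ((b : G)⁻¹ * a)
          = (b : G)⁻¹ * ((b : G) * (d * (b : G)⁻¹ * d⁻¹)) * d * a := by group
        _ = (b : G)⁻¹ * ((a : G) * (d * (a : G)⁻¹ * d⁻¹)) * d * a := by rw [e']
        _ = (b : G)⁻¹ * a * d := by group
    intro x hx
    obtain ⟨m, hm⟩ := (Finite.injective_iff_surjective.1 hf) ⟨x, hx⟩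
    have h4 : (m : G) * (d * (m : G)⁻¹ * d⁻¹) = x := congrArg Subtype.val hm
    rw [← h4, ← mul_assoc, ← mul_assoc]
    exact mul_mem (hKn.conj_mem d (hDK hd) m) (inv_mem (hDK hd))
  have hNK : N ≤ K := by
    intro g hg
    obtain ⟨m, hm, e, he, rfl⟩ := h.decomposition hu huN hg
    exact mul_mem (hMK hm) (hDK he)
  rw [eq_top_iff]
  intro g _
  by_cases hg : g ∈ N
  · exact hNK hg
  obtain ⟨m, hm, e⟩ := h.transitive huN hg
  rw [MulAction.Quotient.smul_coe, smul_eq_mul, QuotientGroup.eq] at e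
  rw [show g = m * u * ((m * u)⁻¹ * g) by group]
  exact mul_mem (mul_mem (hMK hm) (hinv u hu)) (hNK e)

theorem isSimple : IsSimpleGroup G := by
  haveI : Nontrivial G := by
    obtain ⟨t, -, ht⟩ := h.invol
    exact ⟨t, 1, fun e => by rw [e, orderOf_one] at ht; norm_num at ht⟩
  exact ⟨fun K hK => or_iff_not_imp_left.2 fun hne => @normal_eq_top _ _ _ _ h K hK hne⟩

theorem zassenhaus : Cfsg.IsZassenhausGroup G (G ⧸ normalizer (M : Set G)) := by
  haveI := h.isSimple
  set N := normalizer (M : Set G) with hN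
  obtain ⟨u, hu, huN⟩ := H67.se_exists_invol_not_mem h.se
  have hu1 : (QuotientGroup.mk 1 : G ⧸ N) ≠ QuotientGroup.mk u :=
    (mk_ne_one_iff.2 huN).symm
  refine ⟨?_, ?_, fun g a b c hab hbc hac ha hb hc => h.fix_three hab hac hbc ha hb hc, ?_, ?_⟩
  · have hker : (MulAction.toPermHom G (G ⧸ N)).ker = ⊥ := by
      refine (IsSimpleGroup.eq_bot_or_eq_top_of_normal _ (MonoidHom.normal_ker _)).resolve_right
        fun e => ?_
      rw [← Subgroup.normalCore_eq_ker] at e
      exact h.se.1 (eq_top_iff.2 (e ▸ normalCore_le N))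
    exact ⟨fun {a b} hab => (MonoidHom.ker_eq_bot_iff _).1 hker (Equiv.ext hab)⟩
  · rw [MulAction.is_two_pretransitive_iff]
    intro a b c d hab hcd
    obtain ⟨g₁, e₁, e₂⟩ := h.normal_form huN hab
    obtain ⟨g₂, e₃, e₄⟩ := h.normal_form huN hcd
    exact ⟨g₂⁻¹ * g₁, by rw [mul_smul, e₁, ← e₃, inv_smul_smul],
      by rw [mul_smul, e₂, ← e₄, inv_smul_smul]⟩
  · haveI : Nontrivial (D M u) := Finite.one_lt_card_iff_nontrivial.1 (h.two_le_card_D hu huN)
    obtain ⟨⟨d, hd⟩, hd1⟩ := exists_ne (1 : D M u)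
    exact ⟨d, fun e => hd1 (Subtype.ext e), _, _, hu1,
      smul_base_iff.2 (by simpa using (h.mem_D.1 hd).1), smul_base_iff.2 (h.mem_D.1 hd).2⟩
  · intro K hK htr
    rcases hK.eq_bot_or_eq_top with rfl | rfl
    · obtain ⟨k, hk⟩ := htr.exists_smul_eq (QuotientGroup.mk 1) (QuotientGroup.mk u)
      obtain rfl : k = 1 := Subsingleton.elim _ _
      exact absurd ((one_smul G _).symm.trans hk) hu1
    · obtain ⟨t, htM, ht⟩ := h.invol
      refine ⟨QuotientGroup.mk 1, fun e => ?_⟩
      have h1 : (⟨t, mem_top t⟩ : (⊤ : Subgroup G)) ∈ (⊥ : Subgroup (⊤ : Subgroup G)) :=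
        e ▸ mem_stabilizer_iff.2 (smul_base_iff.2 (by simpa using le_normalizer htM))
      rw [Subgroup.mem_bot] at h1
      rw [show t = 1 from congrArg Subtype.val h1, orderOf_one] at ht
      norm_num at ht

theorem isPGroup : IsPGroup 2 M := by
  classical
  haveI := h.isSimple
  set N := normalizer (M : Set G)
  obtain ⟨u, hu, huN⟩ := H67.se_exists_invol_not_mem h.se
  letI : Fintype (G ⧸ N) := Fintype.ofFinite _
  have hp := H66.Feit.isPrimePow_degree h.zassenhaus
  have hc : Fintype.card (G ⧸ N) - 1 = Nat.card M := by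
    rw [← Fintype.card_subtype_eq (QuotientGroup.mk 1 : G ⧸ N), ← Fintype.card_subtype_compl,
      ← Nat.card_eq_fintype_card]
    refine (Nat.card_congr (Equiv.ofBijective (fun m : M =>
      (⟨(m : G) • (QuotientGroup.mk u : G ⧸ N), ?_⟩ :
        {x : G ⧸ N // ¬ x = QuotientGroup.mk 1})) ?_)).symm
    · rw [MulAction.Quotient.smul_coe, smul_eq_mul]
      exact mk_ne_one_iff.2 fun hm => huN ((mul_mem_cancel_left (le_normalizer m.2)).1 hm)
    · refine Function.bijective_iff_existsUnique _ |>.2 fun b => ?_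
      obtain ⟨m, hm, huniq⟩ := h.regular _ b.1 (mk_ne_one_iff.2 huN) b.2
      exact ⟨m, Subtype.ext hm, fun m' e => huniq m' (congrArg Subtype.val e)⟩
  rw [hc] at hp
  obtain ⟨p, k, hp', -, hpk⟩ := (isPrimePow_nat_iff _).1 hp
  obtain ⟨t, htM, ht⟩ := h.invol
  have h2 : 2 ∣ p := Nat.prime_two.dvd_of_dvd_pow
    (hpk.symm ▸ ht ▸ Subgroup.orderOf_dvd_natCard M htM)
  rw [← (Nat.prime_dvd_prime_iff_eq Nat.prime_two hp').1 h2] at hpk
  exact IsPGroup.of_card hpk.symm

/-- The rank-one context. -/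
theorem exists_ctx : ∃ u v : G, orderOf u = 2 ∧ u ∉ normalizer (M : Set G) ∧
    H66.ZS.Ctx G (G ⧸ normalizer (M : Set G)) (QuotientGroup.mk 1) v M ∧
    H66.R1.twoPt G (QuotientGroup.mk 1 : G ⧸ normalizer (M : Set G)) v = D M u := by
  classical
  set N := normalizer (M : Set G) with hN
  obtain ⟨u, hu, huN⟩ := H67.se_exists_invol_not_mem h.se
  have hM2 := h.isPGroup
  have hM1 : M ≠ ⊥ := by
    obtain ⟨t, htM, ht⟩ := h.invol
    intro e
    rw [e, Subgroup.mem_bot] at htM
    rw [htM, orderOf_one] at ht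
    norm_num at ht
  have hstab : ∀ g : G, g ∈ stabilizer G (QuotientGroup.mk 1 : G ⧸ N) ↔ g ∈ N := fun g => by
    rw [mem_stabilizer_iff, smul_base_iff]
    simp
    rfl
  obtain ⟨v, hv, hC⟩ := H66.ZS.exists_ctx_of_ne_bot h.zassenhaus
    (a := (QuotientGroup.mk 1 : G ⧸ N)) (b := QuotientGroup.mk u)
    (mk_ne_one_iff.2 huN).symm (U := M) (fun m hm => (hstab m).2 (le_normalizer hm))
    (fun g hg m hm => h.conj_invol_mem ((hstab g).1 hg) hm) h.regular hM2 hM1
  have htwo : H66.R1.twoPt G (QuotientGroup.mk 1 : G ⧸ N) v = D M u := by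
    ext g
    rw [H66.R1.mem_twoPt, hv, h.mem_D, ← mem_stabilizer_iff, hstab, smul_base_iff]
  exact ⟨u, v, hu, huN, hC, htwo⟩

theorem exponent_two_of_comm (hab : ∀ x ∈ M, ∀ y ∈ M, x * y = y * x) : ∀ m ∈ M, m ^ 2 = 1 := by
  classical
  obtain ⟨u, v, hu, huN, hC, htwo⟩ := h.exists_ctx
  -- every non-trivial element is an involution
  have hcard := H66.ZS.ab_card hC hab
  rw [htwo, h.card_D hu huN] at hcard
  intro m hm
  by_cases hm1 : m = 1
  · rw [hm1, one_pow]
  let f : {s : G // s ∈ M ∧ orderOf s = 2} → {x : M // ¬ x = 1} := fun s =>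
    ⟨⟨s.1, s.2.1⟩, fun e => by
      have h2 := s.2.2
      rw [show (s.1 : G) = 1 from congrArg Subtype.val e, orderOf_one] at h2
      norm_num at h2⟩
  have hf : Function.Injective f := fun a b e =>
    Subtype.ext (congrArg (fun x : {x : M // ¬ x = 1} => ((x.1 : M) : G)) e)
  have hsurj := (hf.bijective_of_nat_card_le (by
    letI := Fintype.ofFinite M
    rw [Nat.card_eq_fintype_card, Fintype.card_subtype_compl, Fintype.card_subtype_eq,
      ← Nat.card_eq_fintype_card (α := M), hcard, Nat.add_sub_cancel])).2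
  obtain ⟨s, hs⟩ := hsurj ⟨⟨m, hm⟩, fun e => hm1 (congrArg Subtype.val e)⟩
  have hsm : (s.1 : G) = m := congrArg (fun x : {x : M // ¬ x = 1} => ((x.1 : M) : G)) hs
  rw [← hsm]
  exact orderOf_dvd_iff_pow_eq_one.1 (dvd_of_eq s.2.2)

theorem exponent_two (htic : TIC G) : ∀ m ∈ M, m ^ 2 = 1 := by
  classical
  obtain ⟨u, v, hu, huN, hC, htwo⟩ := h.exists_ctx
  by_cases hab : ∀ x ∈ M, ∀ y ∈ M, x * y = y * x
  · exact h.exponent_two_of_comm hab
  exfalso
  push Not at hab
  obtain ⟨a₀, ha₀, b₀, hb₀, hne⟩ := hab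
  obtain ⟨n, -, hn1, hQ, hZ, hD⟩ := H66.ZS.zs_main hC ⟨a₀, ha₀, b₀, hb₀, hne⟩
  rw [htwo] at hD
  obtain ⟨x₀, hx₀⟩ : ∃ x : M, x ∉ center M := by
    refine ⟨⟨a₀, ha₀⟩, fun hc => hne ?_⟩
    exact (congrArg Subtype.val (mem_center_iff.1 hc ⟨b₀, hb₀⟩)).symm
  set x : G := (x₀ : G) with hx
  have hx1 : x ≠ 1 := fun e => hx₀ (by
    rw [show x₀ = 1 from Subtype.ext e]; exact one_mem _)
  set C := centralizer ({x} : Set G) with hC'
  have hzC : ∀ z ∈ center M, (z : G) ∈ C := fun z hz => mem_cent.2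
    (congrArg Subtype.val (mem_center_iff.1 hz x₀)).symm
  let act : D M u → M → M := fun d m => ⟨(d : G) * m * (d : G)⁻¹,
    h.conj_invol_mem (h.mem_D.1 d.2).1 m.2⟩
  have hactc : ∀ d : D M u, ∀ z ∈ center M, act d z ∈ center M := by
    intro d z hz
    refine mem_center_iff.2 fun m => Subtype.ext ?_
    have h1 : ((act d⁻¹ m : M) : G) * z = z * ((act d⁻¹ m : M) : G) :=
      congrArg Subtype.val (mem_center_iff.1 hz (act d⁻¹ m))
    simp only [act, InvMemClass.coe_inv, inv_inv] at h1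
    show (m : G) * ((d : G) * z * (d : G)⁻¹) = (d : G) * z * (d : G)⁻¹ * m
    calc (m : G) * ((d : G) * z * (d : G)⁻¹)
        = (d : G) * ((d : G)⁻¹ * m * (d : G) * z) * (d : G)⁻¹ := by group
      _ = (d : G) * (z * ((d : G)⁻¹ * m * (d : G))) * (d : G)⁻¹ := by rw [h1]
      _ = (d : G) * z * (d : G)⁻¹ * m := by group
  haveI : Nontrivial (center M) := Finite.one_lt_card_iff_nontrivial.1 (by
    rw [hZ]; exact Nat.one_lt_two_pow (by omega))
  obtain ⟨⟨z₀, hz₀⟩, hz₀1⟩ := exists_ne (1 : center M)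
  have hz₀1' : (z₀ : G) ≠ 1 := fun e => hz₀1 (Subtype.ext (Subtype.ext e))
  -- `D` normalises the centraliser of `x`, hence all conjugates centralise `x`
  have hcomm : ∀ d : D M u, ((act d x₀ : M) : G) ∈ C := by
    intro d
    have hd : (d : G) ∈ normalizer (C : Set G) := by
      by_contra hd
      exact hz₀1' (htic x (d : G) hd _ (hzC z₀ hz₀) (hzC _ (hactc d z₀ hz₀)))
    exact (mem_normalizer_iff.1 hd x).1 (self_mem_cent x)
  let f : D M u × center M → {m : M // ¬ m ∈ center M} := fun p =>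
    ⟨act p.1 x₀ * p.2, fun hc => hx₀ (by
      have h1 : act p.1 x₀ ∈ center M := (mul_mem_cancel_right p.2.2).1 hc
      have h2 := hactc p.1⁻¹ _ h1
      rwa [show act p.1⁻¹ (act p.1 x₀) = x₀ from Subtype.ext (by simp [act, mul_assoc])] at h2)⟩
  have hfpf : ∀ e : D M u, x₀⁻¹ * act e x₀ ∈ center M → e = 1 := by
    intro e he'
    by_contra he1
    obtain ⟨p, hp, hpd⟩ := Nat.exists_prime_and_dvd (mt orderOf_eq_one_iff.1 he1)
    haveI := Fact.mk hp
    set k := orderOf e / p with hk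
    have hek : orderOf (e ^ k) = p := orderOf_pow_orderOf_div (orderOf_pos e).ne' hpd
    let H : Subgroup (D M u) :=
      { carrier := {c | x₀⁻¹ * act c x₀ ∈ center M}
        one_mem' := by
          show x₀⁻¹ * act 1 x₀ ∈ center M
          rw [show act 1 x₀ = x₀ from Subtype.ext (by simp [act]), inv_mul_cancel]
          exact one_mem _
        mul_mem' := fun {a b} ha hb => by
          show x₀⁻¹ * act (a * b) x₀ ∈ center M
          rw [show act (a * b) x₀ = act a x₀ * act a (x₀⁻¹ * act b x₀) from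
            Subtype.ext (by simp [act, mul_assoc]), ← mul_assoc]
          exact mul_mem ha (hactc a _ hb)
        inv_mem' := fun {a} ha => by
          show x₀⁻¹ * act a⁻¹ x₀ ∈ center M
          rw [show x₀⁻¹ * act a⁻¹ x₀ = (act a⁻¹ (x₀⁻¹ * act a x₀))⁻¹ from
            Subtype.ext (by simp [act, mul_assoc])]
          exact inv_mem (hactc a⁻¹ _ ha) }
    have heH : e ^ k ∈ H := pow_mem (show e ∈ H from he') k
    set c := e ^ k with hc
    have hc1 : c ≠ 1 := fun e1 => hp.one_lt.ne' (by rw [← hek, e1, orderOf_one])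
    let σ : center M → center M := fun z =>
      ⟨x₀⁻¹ * act c x₀ * act c z, mul_mem heH (hactc c z z.2)⟩
    -- `σ` is conjugation by `c` on the coset `x₀ Z`
    have hσ : ∀ z : center M, ((x₀ * σ z : M) : G) = (c : G) * ((x₀ * z : M) : G) * (c : G)⁻¹ := by
      intro z
      simp [σ, act, mul_assoc]
    have hit : ∀ (j : ℕ) (z : center M), ((x₀ * σ^[j] z : M) : G) =
        (c : G) ^ j * ((x₀ * z : M) : G) * ((c : G) ^ j)⁻¹ := by
      intro j
      induction j with
      | zero => intro z; simp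
      | succ j ih =>
        intro z
        rw [Function.iterate_succ_apply', hσ, ih, pow_succ']
        group
    have hσp : ∀ z : center M, σ^[p] z = z := fun z => by
      have := hit p z
      rw [show (c : G) ^ p = 1 by
        rw [← hek, ← Subgroup.orderOf_coe]; exact pow_orderOf_eq_one _] at this
      simpa using this
    have hσb : Function.Bijective σ := by
      refine Finite.injective_iff_bijective.1 fun z z' e1 => ?_
      rw [← hσp z, ← hσp z', ← Nat.succ_pred_eq_of_pos hp.pos, Function.iterate_succ_apply,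
        Function.iterate_succ_apply, e1]
    letI := Fintype.ofFinite (center M)
    obtain ⟨z, hz⟩ := Equiv.Perm.exists_fixed_point_of_prime
      (σ := Equiv.ofBijective σ hσb) (p := p) (n := 1)
      (by
        rw [← Nat.card_eq_fintype_card, hZ]
        intro hdvd
        have := (Nat.prime_dvd_prime_iff_eq hp Nat.prime_two).1 (hp.dvd_of_dvd_pow hdvd)
        have hodd := (h.odd_D huN e.2).of_dvd_nat
          (show p ∣ orderOf (e : G) by rwa [Subgroup.orderOf_coe])
        rw [this] at hodd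
        exact absurd hodd (by decide))
      (Equiv.ext fun z => by
        rw [pow_one, ← Equiv.Perm.iterate_eq_pow]
        exact hσp z)
    have hz' : σ z = z := hz
    have h1 := hσ z
    rw [hz'] at h1
    refine hc1 (Subtype.ext (h.commute_eq_one huN c.2 (x₀ * z : M).2
      (eq_mul_inv_iff_mul_eq.1 h1).symm (fun e1 => hx₀ ?_)))
    have h2 : x₀ * z = 1 := Subtype.ext e1
    rw [eq_inv_of_mul_eq_one_left h2]
    exact inv_mem z.2
  have hf : Function.Injective f := by
    rintro ⟨d, z⟩ ⟨d', z'⟩ e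
    have e' : act d x₀ * z = act d' x₀ * z' := congrArg Subtype.val e
    have h1 : d'⁻¹ * d = 1 := hfpf _ (by
      have h2 : (act d' x₀)⁻¹ * act d x₀ ∈ center M := by
        rw [show (act d' x₀)⁻¹ * act d x₀ = (z' : M) * (z : M)⁻¹ by
          rw [eq_mul_inv_iff_mul_eq, mul_assoc, e', inv_mul_cancel_left]]
        exact mul_mem z'.2 (inv_mem z.2)
      have h3 := hactc d'⁻¹ _ h2
      rwa [show act d'⁻¹ ((act d' x₀)⁻¹ * act d x₀) = x₀⁻¹ * act (d'⁻¹ * d) x₀ from
        Subtype.ext (by simp [act, mul_assoc])] at h3)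
    obtain rfl := inv_mul_eq_one.1 h1
    exact Prod.ext rfl (Subtype.ext (mul_left_cancel e'))
  have hsurj := (hf.bijective_of_nat_card_le (by
    letI := Fintype.ofFinite M
    rw [Nat.card_eq_fintype_card, Fintype.card_subtype_compl, Nat.card_prod,
      ← Nat.card_eq_fintype_card, ← Nat.card_eq_fintype_card, hQ,
      show Nat.card {m : M // m ∈ center M} = 2 ^ n from hZ,
      show Nat.card (D M u) = 2 ^ n - 1 by omega, Nat.sub_one_mul, sq])).2
  refine hx₀ (mem_center_iff.2 fun m => Subtype.ext ?_)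
  have hmC : (m : G) ∈ C := by
    by_cases hm : m ∈ center M
    · exact hzC m hm
    obtain ⟨⟨d, z⟩, e⟩ := hsurj ⟨m, hm⟩
    rw [← show act d x₀ * z = m from congrArg Subtype.val e, Subgroup.coe_mul]
    exact mul_mem (hcomm d) (hzC z z.2)
  exact mem_cent.1 hmC

theorem iso (hexp : ∀ m ∈ M, m ^ 2 = 1) : ∃ n : ℕ, 2 ≤ n ∧
    Nonempty (G ≃* Matrix.ProjectiveSpecialLinearGroup (Fin 2) (GaloisField 2 n)) := by
  haveI : Fact (Nat.Prime 2) := ⟨Nat.prime_two⟩
  obtain ⟨T, hT⟩ := IsPGroup.exists_le_sylow h.isPGroup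
  obtain ⟨t, htM, ht⟩ := h.invol
  have ht1 : t ≠ 1 := fun e => by rw [e, orderOf_one] at ht; norm_num at ht
  have hTM : (T : Subgroup G) = M := by
    obtain ⟨z, -, hz1, hz⟩ := exists_sylow_central T (hT htM) ht1
    have hzM : z ∈ M := h.comp.cent t htM ht1 (mem_cent.2 (hz t (hT htM)).symm)
    exact le_antisymm (fun u hu => h.comp.cent z hzM hz1 (mem_cent.2 (hz u hu))) hT
  have hd : H67.CAData T := by
    refine ⟨fun hcyc => ?_, fun hnor => h.se.1 ?_, fun v hv => ?_⟩
    · obtain ⟨s, hs, s', hs', hs2, hs2', hne⟩ := h.two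
      obtain ⟨w, hw⟩ := hcyc.exists_generator
      have hw2 : (w : G) ^ 2 = 1 := hexp _ (hTM ▸ w.2)
      have key : ∀ z ∈ M, orderOf z = 2 → z = w := by
        intro z hz hz2
        obtain ⟨k, hk⟩ := hw ⟨z, hT hz⟩
        have hk' : (w : G) ^ k = z := congrArg Subtype.val hk
        rcases Int.even_or_odd' k with ⟨j, rfl | rfl⟩
        · rw [zpow_mul, zpow_ofNat, hw2, one_zpow] at hk'
          rw [← hk', orderOf_one] at hz2
          norm_num at hz2
        · rw [zpow_add, zpow_mul, zpow_ofNat, hw2, one_zpow, one_mul, zpow_one] at hk'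
          exact hk'.symm
      exact hne ((key s hs hs2).trans (key s' hs' hs2').symm)
    · rw [hTM] at hnor
      exact normalizer_eq_top_iff.2 hnor
    · obtain ⟨c, hc⟩ := isConj_iff.1 (H67.se_isConj h.se hv ht)
      have hmem : ∀ a ∈ centralizer ({v} : Set G), c * a * c⁻¹ ∈ M := fun a ha =>
        h.comp.cent t htM ht1 (mem_cent.2 (by
          rw [← hc]
          calc c * a * c⁻¹ * (c * v * c⁻¹) = c * (a * v) * c⁻¹ := by group
            _ = c * (v * a) * c⁻¹ := by rw [mem_cent.1 ha]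
            _ = c * v * c⁻¹ * (c * a * c⁻¹) := by group))
      have hsq : ∀ a ∈ centralizer ({v} : Set G), a * a = 1 := fun a ha => by
        have h1 := hexp _ (hmem a ha)
        rw [conj_pow, conj_eq_one_iff, sq] at h1
        exact h1
      refine ⟨⟨⟨fun a b => Subtype.ext ?_⟩⟩, fun a ha => by rw [sq]; exact hsq a ha⟩
      calc (a : G) * b = ((a : G) * b)⁻¹ :=
            eq_inv_of_mul_eq_one_left (hsq _ (mul_mem a.2 b.2))
        _ = b * a := by
          rw [mul_inv_rev, inv_eq_of_mul_eq_one_right (hsq _ a.2),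
            inv_eq_of_mul_eq_one_right (hsq _ b.2)]
  obtain ⟨F, i1, i2, hF, ⟨φ⟩⟩ := hd.exists_iso_PSL
  obtain ⟨n, hn⟩ := IsPGroup.iff_card.1 T.isPGroup'
  have h4 := hd.four_le_card
  rw [hn] at h4
  have hn2 : 2 ≤ n := by
    by_contra hlt
    interval_cases n <;> norm_num at h4
  letI := Fintype.ofFinite (GaloisField 2 n)
  refine ⟨n, hn2, ⟨φ.trans (H37.pslCongr (FiniteField.ringEquivOfCardEq ?_))⟩⟩
  rw [hF, ← Nat.card_eq_fintype_card, GaloisField.card 2 n (by omega)]
  exact hn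

end Even'

end H11.CTI
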