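import Mathlib
import Cfsg.Prelude.Def_LieExceptional
import Cfsg.Prelude.Def_OddOrderLocal

/-!
Groups in which all centralisers of elements are TI-sets: they are CN-groups, partitioned by
components.
-/

set_option autoImplicit false
set_option linter.style.haveILetI false
set_option linter.unusedSectionVars false

namespace H11.CTI

open Subgroup

universe u

variable {G : Type u} [Group G]

/-- All centralisers of elements are TI. -/
def TIC (G : Type u) [Group G] : Prop :=
  ∀ x : G, Cfsg.IsTISubset (centralizer ({x} : Set G) : Set G)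

theorem mem_cent {x g : G} : g ∈ centralizer ({x} : Set G) ↔ g * x = x * g :=
  mem_centralizer_singleton_iff

theorem mem_cent_symm {x g : G} (h : g ∈ centralizer ({x} : Set G)) :
    x ∈ centralizer ({g} : Set G) := mem_cent.2 (mem_cent.1 h).symm

theorem self_mem_cent (x : G) : x ∈ centralizer ({x} : Set G) := mem_cent.2 rfl

/-- The centraliser of an element of a centraliser normalises it. -/
theorem cent_le_normalizer (hG : TIC G) {a b : G} (ha : a ≠ 1)
    (hab : a ∈ centralizer ({b} : Set G)) :
    centralizer ({a} : Set G) ≤ normalizer (centralizer ({b} : Set G) : Set G) := by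
  intro g hg
  by_contra hgn
  refine ha (hG b g hgn a hab ?_)
  rw [mem_cent.1 hg, mul_inv_cancel_right]
  exact hab

theorem TIC.subgroup (hG : TIC G) (H : Subgroup G) : TIC H := by
  intro x g hg a ha hga
  by_contra ha1
  refine hg ?_
  have hga' : (g : G) * a * (g : G)⁻¹ ∈ centralizer ({(x : G)} : Set G) :=
    mem_cent.2 (congrArg Subtype.val (mem_cent.1 hga))
  have hN : (g : G) ∈ normalizer (centralizer ({(x : G)} : Set G) : Set G) := by
    by_contra h
    exact ha1 (Subtype.ext (hG (x : G) g h a (mem_cent.2 (congrArg Subtype.val (mem_cent.1 ha))) hga'))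
  rw [mem_normalizer_iff] at hN ⊢
  intro w
  simp only [mem_cent, Subtype.ext_iff]
  exact (mem_cent (G := G)).symm.trans ((hN (w : G)).trans mem_cent)

/-- Elements commuting with their conjugates give nilpotency. -/
theorem nilpotent_of_commute_conj {H : Type u} [Group H] [Finite H]
    (h : ∀ g u : H, Commute (g * u * g⁻¹) u) : Group.IsNilpotent H := by
  have hconj : ∀ (u a b : H), a ∈ Group.conjugatesOfSet ({u} : Set H) →
      b ∈ Group.conjugatesOfSet ({u} : Set H) → a * b = b * a := by
    intro u a b ha hb
    obtain ⟨v, hv, hva⟩ := Group.mem_conjugatesOfSet_iff.1 ha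
    obtain ⟨w, hw, hwb⟩ := Group.mem_conjugatesOfSet_iff.1 hb
    rw [Set.mem_singleton_iff] at hv hw
    subst hv hw
    obtain ⟨c, rfl⟩ := isConj_iff.1 (hva.symm.trans hwb)
    exact (h c a).eq.symm
  refine ((Group.isNilpotent_of_finite_tfae (G := H)).out 0 3 rfl rfl).2 ?_
  intro p hp P
  refine ⟨fun u hu g => ?_⟩
  -- the conjugates of `u` generate a `p`-group
  obtain ⟨k, hk⟩ := IsPGroup.iff_orderOf.1 P.isPGroup' ⟨u, hu⟩
  rw [orderOf_mk] at hk
  have hcl : IsPGroup p (normalClosure ({u} : Set H)) := by
    rintro ⟨a, ha⟩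
    have hcm : IsMulCommutative (normalClosure ({u} : Set H)) := by
      rw [normalClosure]
      exact isMulCommutative_closure fun a ha b hb => hconj u a b ha hb
    refine ⟨k, Subtype.ext ?_⟩
    show a ^ p ^ k = 1
    induction ha using closure_induction with
    | mem b hb =>
      obtain ⟨v, hv, hvb⟩ := Group.mem_conjugatesOfSet_iff.1 hb
      rw [Set.mem_singleton_iff] at hv
      subst hv
      obtain ⟨c, rfl⟩ := isConj_iff.1 hvb
      rw [conj_pow, ← hk, pow_orderOf_eq_one]; simp
    | one => simp
    | mul b c hb hc ihb ihc =>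
      have : Commute b c := congrArg Subtype.val
        (mul_comm' (⟨b, hb⟩ : normalClosure ({u} : Set H)) ⟨c, hc⟩)
      rw [this.mul_pow, ihb, ihc, one_mul]
    | inv b _ ih => rw [inv_pow, ih, inv_one]
  have hle : normalClosure ({u} : Set H) ≤ P :=
    (P.is_maximal' (hcl.to_sup_of_normal_left P.isPGroup') le_sup_right) ▸ le_sup_left
  exact hle (normalClosure_normal.conj_mem u (subset_normalClosure (Set.mem_singleton u)) g)

/-- A central element makes the group nilpotent. -/
theorem commute_conj_of_center {H : Type u} [Group H] (hH : TIC H) {z : H} (hz : z ≠ 1)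
    (hzc : ∀ g : H, g * z = z * g) (g u : H) : Commute (g * u * g⁻¹) u := by
  have hN : g ∈ normalizer (centralizer ({u} : Set H) : Set H) :=
    cent_le_normalizer hH hz (mem_cent.2 (hzc u).symm) (mem_cent.2 (hzc g))
  exact mem_cent.1 ((mem_normalizer_iff.1 hN u).1 (self_mem_cent u))

theorem nilpotent_of_center {H : Type u} [Group H] [Finite H] (hH : TIC H) {z : H} (hz : z ≠ 1)
    (hzc : ∀ g : H, g * z = z * g) : Group.IsNilpotent H :=
  nilpotent_of_commute_conj (commute_conj_of_center hH hz hzc)

variable [Finite G]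

/-- Such a group is a CN-group. -/
theorem cent_nilpotent (hG : TIC G) {x : G} (hx : x ≠ 1) :
    Group.IsNilpotent (centralizer ({x} : Set G)) :=
  nilpotent_of_center (hG.subgroup _) (z := ⟨x, self_mem_cent x⟩)
    (fun h => hx (congrArg Subtype.val h)) fun g => Subtype.ext (mem_cent.1 g.2)

/-- In a centraliser, elements of coprime prime power orders commute. -/
theorem commute_of_ne (hG : TIC G) {x a b : G} (hx : x ≠ 1) {p q i j : ℕ} (hp : p.Prime)
    (hq : q.Prime) (hpq : p ≠ q)
    (ha : a ∈ centralizer ({x} : Set G)) (hb : b ∈ centralizer ({x} : Set G))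
    (hai : orderOf a = p ^ i) (hbj : orderOf b = q ^ j) : a * b = b * a := by
  haveI := cent_nilpotent hG hx
  haveI := Fact.mk hp
  haveI := Fact.mk hq
  have key : ∀ (r : ℕ) [Fact r.Prime] (S : Sylow r (centralizer ({x} : Set G)))
      (w : centralizer ({x} : Set G)) (k : ℕ), orderOf w = r ^ k → w ∈ (S : Subgroup _) := by
    intro r _ S w k hk
    obtain ⟨T, hT⟩ := IsPGroup.exists_le_sylow (P := zpowers w) (p := r)
      (IsPGroup.of_card (n := k) (by rw [Nat.card_zpowers, hk]))
    haveI := Sylow.unique_of_normal S inferInstance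
    exact Subsingleton.elim T S ▸ hT (mem_zpowers w)
  let S : Sylow p (centralizer ({x} : Set G)) := default
  let T : Sylow q (centralizer ({x} : Set G)) := default
  exact congrArg Subtype.val (commute_of_normal_of_disjoint (S : Subgroup _) (T : Subgroup _)
    inferInstance inferInstance
    (IsPGroup.disjoint_of_ne p q hpq _ _ S.2 T.2) ⟨a, ha⟩ ⟨b, hb⟩
    (key p S _ i (by rwa [orderOf_mk])) (key q T _ j (by rwa [orderOf_mk]))).eq

end H11.CTI
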