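import Cfsg.Agent.H11.CTI.Basic

/-!
The components: nilpotent Hall TI-subgroups containing the centralisers of their non-identity
elements.
-/

set_option autoImplicit false
set_option linter.style.haveILetI false
set_option linter.unusedSectionVars false

namespace H11.CTI

open Subgroup

universe u

variable {G : Type u} [Group G] [Finite G]

/-- A component: it contains the centralisers of its non-identity elements and has non-trivial
centre. -/
structure IsComp (M : Subgroup G) : Prop where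
  cent : ∀ m ∈ M, m ≠ 1 → centralizer ({m} : Set G) ≤ M
  central : ∃ z ∈ M, z ≠ 1 ∧ ∀ m ∈ M, m * z = z * m

theorem exists_orderOf_pow {p : ℕ} (R : Sylow p G) [Fact p.Prime] {u : G}
    (hu : u ∈ (R : Subgroup G)) : ∃ k, orderOf u = p ^ k := by
  obtain ⟨k, hk⟩ := IsPGroup.iff_orderOf.1 R.isPGroup' ⟨u, hu⟩
  exact ⟨k, by rwa [orderOf_mk] at hk⟩

/-- A central element of a Sylow subgroup. -/
theorem exists_sylow_central {p : ℕ} [Fact p.Prime] (R : Sylow p G) {x : G}
    (hx : x ∈ (R : Subgroup G)) (hx1 : x ≠ 1) :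
    ∃ z ∈ (R : Subgroup G), z ≠ 1 ∧ ∀ u ∈ (R : Subgroup G), u * z = z * u := by
  haveI : Nontrivial (R : Subgroup G) := ⟨⟨⟨x, hx⟩, 1, fun h => hx1 (congrArg Subtype.val h)⟩⟩
  haveI := R.isPGroup'.center_nontrivial
  obtain ⟨⟨z, hz⟩, hz1⟩ := exists_ne (1 : center (R : Subgroup G))
  exact ⟨z, z.2, fun h => hz1 (Subtype.ext (Subtype.ext h)), fun u hu =>
    congrArg Subtype.val (mem_center_iff.1 hz ⟨u, hu⟩)⟩

/-- `p`-elements normalising the centraliser of a central element lie in it. -/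
theorem mem_of_normalizes {p : ℕ} [Fact p.Prime] (R : Sylow p G) {z : G}
    (hz : ∀ u ∈ (R : Subgroup G), u * z = z * u) {u : G} {k : ℕ} (hk : orderOf u = p ^ k)
    (hu : u ∈ normalizer (centralizer ({z} : Set G) : Set G)) :
    u ∈ centralizer ({z} : Set G) := by
  set C := centralizer ({z} : Set G)
  set N := normalizer (C : Set G)
  haveI : (C.subgroupOf N).Normal := normal_subgroupOf_of_le_normalizer le_rfl
  have hRC : (R : Subgroup G) ≤ C := fun r hr => mem_cent.2 (hz r hr)
  have hidx : ¬ p ∣ (C.subgroupOf N).index := fun hd => R.not_dvd_index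
    ((hd.trans (relIndex_dvd_index_of_le le_normalizer)).trans (index_dvd_of_le hRC))
  have h1 : ((⟨u, hu⟩ : N) : N ⧸ C.subgroupOf N) = 1 := by
    rw [← orderOf_eq_one_iff]
    refine Nat.eq_one_of_dvd_coprimes (a := p ^ k) (Nat.Coprime.pow_left k
      ((Fact.out : p.Prime).coprime_iff_not_dvd.2 hidx)) ?_ (orderOf_dvd_natCard _)
    rw [← hk]
    exact (orderOf_map_dvd (QuotientGroup.mk' _) _).trans (by rw [orderOf_mk])
  exact mem_subgroupOf.1 ((QuotientGroup.eq_one_iff _).1 h1)

variable (hS : ∀ (p : ℕ) [Fact p.Prime] (P Q : Sylow p G), P ≠ Q →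
  (P : Subgroup G) ⊓ (Q : Subgroup G) = ⊥)
include hS

theorem sylow_unique {p : ℕ} [Fact p.Prime] {P Q : Sylow p G} {h : G}
    (hP : h ∈ (P : Subgroup G)) (hQ : h ∈ (Q : Subgroup G)) (h1 : h ≠ 1) : P = Q := by
  by_contra hne
  exact h1 (mem_bot.1 (hS p P Q hne ▸ mem_inf.2 ⟨hP, hQ⟩))

/-- A centraliser of a central element contains the whole Sylow subgroups it meets. -/
theorem sylow_le_cent (hG : TIC G) {p q : ℕ} [Fact p.Prime] [Fact q.Prime] (P : Sylow p G) {z : G}
    (hzP : z ∈ (P : Subgroup G)) (hz1 : z ≠ 1) (hz : ∀ u ∈ (P : Subgroup G), u * z = z * u)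
    {h : G} (hh : h ≠ 1) (Q : Sylow q G) (hhQ : h ∈ (Q : Subgroup G))
    (hhz : h ∈ centralizer ({z} : Set G)) :
    (Q : Subgroup G) ≤ centralizer ({z} : Set G) := by
  by_cases hpq : q = p
  · subst hpq
    -- `h` lies in `P`
    obtain ⟨k, hk⟩ := exists_orderOf_pow Q hhQ
    haveI := cent_nilpotent hG hz1
    have hPle : (P : Subgroup G) ≤ centralizer ({z} : Set G) := fun u hu => mem_cent.2 (hz u hu)
    have hmem : (⟨h, hhz⟩ : centralizer ({z} : Set G)) ∈ (P.subtype hPle : Subgroup _) := by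
      obtain ⟨T, hT⟩ := IsPGroup.exists_le_sylow (P := zpowers (⟨h, hhz⟩ : centralizer ({z} : Set G)))
        (p := q) (IsPGroup.of_card (n := k) (by rw [Nat.card_zpowers, orderOf_mk, hk]))
      haveI := Sylow.unique_of_normal (P.subtype hPle) inferInstance
      exact Subsingleton.elim T (P.subtype hPle) ▸ hT (mem_zpowers _)
    rw [sylow_unique hS (show h ∈ (P : Subgroup G) from hmem) hhQ hh] at hz
    exact fun u hu => mem_cent.2 (hz u hu)
  · obtain ⟨w, hwQ, hw1, hw⟩ := exists_sylow_central Q hhQ hh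
    obtain ⟨i, hi⟩ := exists_orderOf_pow P hzP
    obtain ⟨j, hj⟩ := exists_orderOf_pow Q hwQ
    have hwz : w * z = z * w := commute_of_ne hG hh Fact.out Fact.out hpq
      (mem_cent.2 (hw h hhQ).symm) (mem_cent_symm hhz) hj hi
    intro u hu
    obtain ⟨l, hl⟩ := exists_orderOf_pow Q hu
    exact mem_cent.2 (commute_of_ne hG hw1 Fact.out Fact.out hpq
      (mem_cent.2 (hw u hu)) (mem_cent.2 hwz.symm) hl hi)

/-- Elements of prime order in the centraliser of a central element have centraliser inside it. -/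
theorem cent_le_of_prime (hG : TIC G) {p q : ℕ} [Fact p.Prime] [Fact q.Prime] (P : Sylow p G) {z : G}
    (hzP : z ∈ (P : Subgroup G)) (hz1 : z ≠ 1) (hz : ∀ u ∈ (P : Subgroup G), u * z = z * u)
    {h : G} (hh : orderOf h = q) (hhz : h ∈ centralizer ({z} : Set G)) :
    centralizer ({h} : Set G) ≤ centralizer ({z} : Set G) := by
  classical
  have hh1 : h ≠ 1 := fun e => (Fact.out : q.Prime).one_lt.ne' (by rw [← hh, e, orderOf_one])
  obtain ⟨Q, hQ⟩ := IsPGroup.exists_le_sylow (P := zpowers h) (p := q)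
    (IsPGroup.of_card (n := 1) (by rw [Nat.card_zpowers, hh, pow_one]))
  have hhQ := hQ (mem_zpowers h)
  have hQM := sylow_le_cent hS hG P hzP hz1 hz hh1 Q hhQ hhz
  obtain ⟨w, hwQ, hw1, hw⟩ := exists_sylow_central Q hhQ hh1
  -- prime power elements
  have key : ∀ (r : ℕ) [Fact r.Prime] (u : G) (k : ℕ), orderOf u = r ^ k →
      u ∈ centralizer ({h} : Set G) → u ∈ centralizer ({z} : Set G) := by
    intro r _ u k hk hu
    have huN := cent_le_normalizer hG hh1 hhz hu
    by_cases hu1 : u = 1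
    · rw [hu1]; exact one_mem _
    obtain ⟨R, hR⟩ := IsPGroup.exists_le_sylow (P := zpowers u) (p := r)
      (IsPGroup.of_card (n := k) (by rw [Nat.card_zpowers, hk]))
    have huR := hR (mem_zpowers u)
    by_cases hrp : r = p
    · subst hrp
      exact mem_of_normalizes P hz hk huN
    by_cases hrq : r = q
    · subst hrq
      -- `Q` is a Sylow subgroup of `C(z)`, normalised by `u`
      set C := centralizer ({z} : Set G)
      set N := normalizer (C : Set G)
      haveI : (C.subgroupOf N).Normal := normal_subgroupOf_of_le_normalizer le_rfl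
      have hidx : ¬ r ∣ (C.subgroupOf N).index := fun hd => Q.not_dvd_index
        ((hd.trans (relIndex_dvd_index_of_le le_normalizer)).trans (index_dvd_of_le hQM))
      have h1 : ((⟨u, huN⟩ : N) : N ⧸ C.subgroupOf N) = 1 := by
        rw [← orderOf_eq_one_iff]
        refine Nat.eq_one_of_dvd_coprimes (a := r ^ k) (Nat.Coprime.pow_left k
          ((Fact.out : r.Prime).coprime_iff_not_dvd.2 hidx)) ?_ (orderOf_dvd_natCard _)
        rw [← hk]
        exact (orderOf_map_dvd (QuotientGroup.mk' _) _).trans (by rw [orderOf_mk])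
      exact mem_subgroupOf.1 ((QuotientGroup.eq_one_iff _).1 h1)
    -- `r` is a new prime
    obtain ⟨v, hvR, hv1, hv⟩ := exists_sylow_central R huR hu1
    obtain ⟨j, hj⟩ := exists_orderOf_pow R hvR
    have hhv : h * v = v * h := commute_of_ne hG hu1 Fact.out Fact.out (Ne.symm hrq)
      (mem_cent_symm hu) (mem_cent.2 (hv u huR).symm) (by rw [hh, pow_one]) hj
    have hQv := sylow_le_cent hS hG R hvR hv1 hv hh1 Q hhQ (mem_cent.2 hhv)
    obtain ⟨i, hi⟩ := exists_orderOf_pow P hzP
    have hvz : v ∈ centralizer ({z} : Set G) := mem_cent.2 (commute_of_ne hG hw1 Fact.out Fact.out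
      hrp (mem_cent_symm (hQv hwQ)) (mem_cent_symm (hQM hwQ)) hj hi)
    exact sylow_le_cent hS hG P hzP hz1 hz hv1 R hvR hvz huR
  intro u hu
  -- reduce to prime powers
  suffices hs : ∀ n : ℕ, ∀ u ∈ centralizer ({h} : Set G), orderOf u = n → u ∈ centralizer ({z} : Set G)
    from hs _ u hu rfl
  intro n
  induction n using Nat.recOnPosPrimePosCoprime with
  | prime_pow r k hr hk =>
    intro u hu ho
    haveI := Fact.mk hr
    exact key r u k ho hu
  | zero => intro u hu ho; exact absurd ho (orderOf_pos u).ne'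
  | one => intro u hu ho; rw [orderOf_eq_one_iff.1 ho]; exact one_mem _
  | coprime a b ha hb hab iha ihb =>
    intro u hu ho
    have h1 : orderOf (u ^ b) = a := by
      rw [orderOf_pow, ho, Nat.gcd_mul_left_left, Nat.mul_div_cancel _ (by omega)]
    have h2 : orderOf (u ^ a) = b := by
      rw [orderOf_pow, ho, Nat.gcd_mul_right_left, Nat.mul_div_cancel_left _ (by omega)]
    have m1 := iha (u ^ b) (pow_mem hu b) h1
    have m2 := ihb (u ^ a) (pow_mem hu a) h2
    obtain ⟨x, hx⟩ : ∃ x : G, x = u := ⟨u, rfl⟩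
    have hbez := Nat.gcd_eq_gcd_ab a b
    rw [hab.gcd_eq_one] at hbez
    have : u = (u ^ a) ^ Nat.gcdA a b * (u ^ b) ^ Nat.gcdB a b := by
      rw [← zpow_natCast u a, ← zpow_natCast u b, ← zpow_mul, ← zpow_mul, ← zpow_add, ← hbez]
      simp
    rw [this]
    exact mul_mem (zpow_mem m2 _) (zpow_mem m1 _)

/-- **Every non-identity element lies in a component.** -/
theorem exists_comp (hG : TIC G) {x : G} (hx : x ≠ 1) : ∃ M : Subgroup G, IsComp M ∧ x ∈ M := by
  classical
  set p := (orderOf x).minFac with hp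
  have hpp : p.Prime := Nat.minFac_prime (mt orderOf_eq_one_iff.1 hx)
  haveI := Fact.mk hpp
  set y := x ^ (orderOf x / p) with hy
  have hyo : orderOf y = p := orderOf_pow_orderOf_div (orderOf_pos x).ne' (Nat.minFac_dvd _)
  have hy1 : y ≠ 1 := fun e => hpp.one_lt.ne' (by rw [← hyo, e, orderOf_one])
  obtain ⟨P, hP⟩ := IsPGroup.exists_le_sylow (P := zpowers y) (p := p)
    (IsPGroup.of_card (n := 1) (by rw [Nat.card_zpowers, hyo, pow_one]))
  obtain ⟨z, hzP, hz1, hz⟩ := exists_sylow_central P (hP (mem_zpowers y)) hy1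
  have hcent : ∀ m ∈ centralizer ({z} : Set G), m ≠ 1 →
      centralizer ({m} : Set G) ≤ centralizer ({z} : Set G) := by
    intro m hm hm1
    set q := (orderOf m).minFac with hq
    have hqq : q.Prime := Nat.minFac_prime (mt orderOf_eq_one_iff.1 hm1)
    haveI := Fact.mk hqq
    refine le_trans (fun g hg => ?_) (cent_le_of_prime hS hG P hzP hz1 hz (q := q)
      (orderOf_pow_orderOf_div (orderOf_pos m).ne' (Nat.minFac_dvd _)) (pow_mem hm _))
    exact mem_cent.2 ((show Commute g m from mem_cent.1 hg).pow_right _).eq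
  refine ⟨centralizer ({z} : Set G), ⟨hcent, z, self_mem_cent z, hz1, fun m hm => mem_cent.1 hm⟩, ?_⟩
  exact hcent y (mem_cent.2 (hz y (hP (mem_zpowers y)))) hy1
    (mem_cent.2 (Commute.self_pow x _).eq)

omit hS in
theorem IsComp.eq_of_mem {M M' : Subgroup G} (h : IsComp M) (h' : IsComp M') {m : G}
    (hm : m ∈ M) (hm' : m ∈ M') (h1 : m ≠ 1) : M = M' := by
  have key : ∀ A B : Subgroup G, IsComp A → IsComp B → m ∈ A → m ∈ B → A ≤ B := by
    intro A B hA hB ha hb
    obtain ⟨c, hc, hc1, hcc⟩ := hA.central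
    have : c ∈ B := hB.cent m hb h1 (mem_cent.2 (hcc m ha).symm)
    exact fun a haA => hB.cent c this hc1 (mem_cent.2 (hcc a haA))
  exact le_antisymm (key M M' h h' hm hm') (key M' M h' h hm' hm)

omit hS in
theorem IsComp.map (g : G) {M : Subgroup G} (h : IsComp M) :
    IsComp (M.map (MulAut.conj g).toMonoidHom) := by
  refine ⟨?_, ?_⟩
  · rintro _ ⟨m, hm, rfl⟩ hne u hu
    have hm1 : m ≠ 1 := fun e => hne (by rw [e]; exact map_one _)
    refine ⟨g⁻¹ * u * g, h.cent m hm hm1 (mem_cent.2 ?_), (by simp [MulAut.conj_apply]; group)⟩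
    have hu' : u * (g * m * g⁻¹) = g * m * g⁻¹ * u := mem_cent.1 hu
    calc g⁻¹ * u * g * m = g⁻¹ * (u * (g * m * g⁻¹)) * g := by group
      _ = m * (g⁻¹ * u * g) := by rw [hu']; group
  · obtain ⟨z, hz, hz1, hzz⟩ := h.central
    refine ⟨_, ⟨z, hz, rfl⟩, fun e => hz1 (by simpa [MulAut.conj_apply] using e), ?_⟩
    rintro _ ⟨m, hm, rfl⟩
    rw [← map_mul, hzz m hm, map_mul]

omit hS in
/-- Components are TI. -/
theorem IsComp.mem_normalizer {M : Subgroup G} (h : IsComp M) {g m : G} (hm : m ∈ M) (hm1 : m ≠ 1)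
    (hg : g * m * g⁻¹ ∈ M) : g ∈ normalizer (M : Set G) := by
  have he := (h.map g).eq_of_mem h ⟨m, hm, rfl⟩ (by simpa [MulAut.conj_apply] using hg)
    (by simpa [MulAut.conj_apply] using hm1)
  rw [mem_normalizer_iff]
  intro a
  constructor
  · intro ha
    rw [← he]
    exact ⟨a, ha, rfl⟩
  · intro ha
    rw [← he] at ha
    obtain ⟨b, hb, e⟩ := ha
    have : b = a := by simpa [MulAut.conj_apply] using e
    exact this ▸ hb

/-- A component contains the Sylow subgroups it meets. -/
theorem IsComp.sylow_le (_hG : TIC G) {M : Subgroup G} (h : IsComp M) {p : ℕ} [Fact p.Prime]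
    (P : Sylow p G) {x : G} (hxM : x ∈ M) (hxP : x ∈ (P : Subgroup G)) (hx : x ≠ 1) :
    (P : Subgroup G) ≤ M := by
  obtain ⟨z, -, hz1, hz⟩ := exists_sylow_central P hxP hx
  have hzM : z ∈ M := h.cent x hxM hx (mem_cent.2 (hz x hxP).symm)
  exact fun u hu => h.cent z hzM hz1 (mem_cent.2 (hz u hu))

omit hS in
theorem IsComp.nilpotent (hG : TIC G) {M : Subgroup G} (h : IsComp M) : Group.IsNilpotent M := by
  obtain ⟨z, hz, hz1, hzz⟩ := h.central
  exact nilpotent_of_center (hG.subgroup M) (z := ⟨z, hz⟩) (fun e => hz1 (congrArg Subtype.val e))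
    fun m => Subtype.ext (hzz m m.2)

end H11.CTI
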