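import Cfsg.Agent.H11.CTI.Solvable
import Cfsg.Agent.H16.OddOrder
import Cfsg.Agent.H85.BrauerSuzuki
import Cfsg.Agent.H2.FrobeniusEven
import Cfsg.Agent.H67.SECount
import Cfsg.Agent.H65.StronglyEmbedded
import Cfsg.Agent.H1.Cores

/-!
Non-solvable groups with TI centralisers: a component with strongly embedded normaliser.
-/

set_option autoImplicit false
set_option linter.style.haveILetI false
set_option linter.unusedSectionVars false

namespace H11.CTI

open Subgroup
open scoped commutatorElement

universe u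

variable {G : Type u} [Group G] [Finite G] (hG : TIC G) (hS : SylTI G)
  (hns : ¬ Group.IsSolvable G)

include hG hS hns

/-- No abelian normal subgroup. -/
theorem abelian_normal_eq_bot (A : Subgroup G) [A.Normal]
    (hAc : ∀ a ∈ A, ∀ b ∈ A, a * b = b * a) : A = ⊥ := by
  by_contra hA
  have hnil : ¬ Group.IsNilpotent G := fun h => hns inferInstance
  obtain ⟨M, hM, hMn, hM1, hMtop, hcop⟩ := exists_normal_comp hG hS hnil A hA hAc
  haveI := hMn
  haveI := hM.nilpotent hG
  obtain ⟨L, hL⟩ := exists_right_complement'_of_coprime hcop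
  haveI : Group.IsSolvable L := by
    by_cases heven : 2 ∣ Nat.card L
    · obtain ⟨⟨s, hsL, hs, huniq, -⟩, -⟩ := H2.even_complement hM1 (fun h hh hne => by
        rw [eq_bot_iff]
        rintro m ⟨hm, hmc⟩
        rw [mem_bot]
        by_contra hm1
        exact hne (H2.complement_inf hL (hM.cent m hm hm1 (mem_cent_symm hmc)) hh)) heven
      haveI : Group.IsNilpotent L := nilpotent_of_center (hG.subgroup L) (z := ⟨s, hsL⟩)
        (fun e => by
          have h1 : s = 1 := congrArg Subtype.val e
          rw [h1, orderOf_one] at hs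
          norm_num at hs)
        fun g => Subtype.ext (by
          show (g : G) * s = s * g
          have h1 := huniq ((g : G) * s * (g : G)⁻¹) (L.mul_mem (L.mul_mem g.2 hsL) (L.inv_mem g.2))
            ((MulEquiv.orderOf_eq (MulAut.conj (g : G)) s).trans hs)
          exact mul_inv_eq_iff_eq_mul.1 h1)
      infer_instance
    · exact H16.FT.oddOrder (by rwa [← Nat.not_even_iff_odd, even_iff_two_dvd])
  refine hns ?_
  haveI : Group.IsSolvable (G ⧸ M) :=
    Group.isSolvable_of_surjective (f := (QuotientGroup.mk' M).comp L.subtype) fun q => by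
      obtain ⟨g, rfl⟩ := QuotientGroup.mk'_surjective M q
      obtain ⟨m, hm, l, hl, rfl⟩ := H2.complement_decomp hL g
      exact ⟨⟨l, hl⟩, by simp [(QuotientGroup.eq_one_iff m).2 hm]⟩
  exact Group.isSolvable_of_ker_le_range M.subtype (QuotientGroup.mk' M) (by simp)

/-- A non-trivial normal subgroup contains an involution. -/
theorem normal_even (K : Subgroup G) [K.Normal] (hK : K ≠ ⊥) : ∃ t ∈ K, orderOf t = 2 := by
  refine H65.exists_two_mem ?_
  rw [← Nat.not_odd_iff_even]
  intro hodd
  haveI := H16.FT.oddOrder (G := K) hodd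
  haveI : Nontrivial K := (nontrivial_iff_ne_bot K).2 hK
  obtain ⟨n, hn⟩ := (Group.isSolvable_def K).1 inferInstance
  -- the last non-trivial term of the derived series is normal in `G`
  classical
  have hex : ∃ n, derivedSeries K n = ⊥ := ⟨n, hn⟩
  have h0 : Nat.find hex ≠ 0 := fun h => by
    have := Nat.find_spec hex
    rw [h, derivedSeries_zero] at this
    exact top_ne_bot this
  obtain ⟨m, hm⟩ := Nat.exists_eq_succ_of_ne_zero h0
  haveI : ((derivedSeries K m).map K.subtype).Normal := inferInstance
  refine Nat.find_min hex (m := m) (by omega) ?_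
  have := abelian_normal_eq_bot hG hS hns ((derivedSeries K m).map K.subtype) (by
    rintro _ ⟨a, ha, rfl⟩ _ ⟨b, hb, rfl⟩
    have h1 : ⁅a, b⁆ ∈ derivedSeries K (m + 1) := by
      rw [derivedSeries_succ]
      exact commutator_mem_commutator ha hb
    rw [show m + 1 = Nat.find hex from hm.symm, Nat.find_spec hex, mem_bot] at h1
    rw [← map_mul, commutatorElement_eq_one_iff_mul_comm.1 h1, map_mul])
  rwa [map_eq_bot_iff_of_injective _ K.subtype_injective] at this

omit hns in
/-- Elements of the normaliser of a component whose order divides its order lie in it. -/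
theorem mem_of_dvd {M : Subgroup G} (hM : IsComp M) {g : G} (hg : g ∈ normalizer (M : Set G))
    (ho : orderOf g ∣ Nat.card M) : g ∈ M := by
  set N := normalizer (M : Set G)
  haveI : (M.subgroupOf N).Normal := normal_subgroupOf_of_le_normalizer le_rfl
  have hcop : (Nat.card M).Coprime (M.subgroupOf N).index := by
    refine Nat.coprime_of_dvd fun p hp h1 h2 => ?_
    haveI := Fact.mk hp
    obtain ⟨⟨x, hxM⟩, hx⟩ := exists_prime_orderOf_dvd_card' p h1
    rw [orderOf_mk] at hx
    obtain ⟨P, hP⟩ := IsPGroup.exists_le_sylow (P := zpowers x) (p := p)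
      (IsPGroup.of_card (n := 1) (by rw [Nat.card_zpowers, hx, pow_one]))
    have hle := hM.sylow_le hS hG P hxM (hP (mem_zpowers x))
      (fun e => hp.one_lt.ne' (by rw [← hx, e, orderOf_one]))
    exact P.not_dvd_index ((h2.trans (relIndex_dvd_index_of_le le_normalizer)).trans
      (index_dvd_of_le hle))
  have h1 : ((⟨g, hg⟩ : N) : N ⧸ M.subgroupOf N) = 1 := by
    rw [← orderOf_eq_one_iff]
    refine Nat.eq_one_of_dvd_coprimes hcop ?_ (orderOf_dvd_natCard _)
    exact ((orderOf_map_dvd (QuotientGroup.mk' _) _).trans (by rw [orderOf_mk])).trans ho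
  exact mem_subgroupOf.1 ((QuotientGroup.eq_one_iff _).1 h1)

/-- The component containing a Sylow 2-subgroup. -/
theorem exists_even_comp :
    ∃ M : Subgroup G, IsComp M ∧ (∃ t ∈ M, orderOf t = 2) ∧
      Cfsg.IsStronglyEmbedded (normalizer (M : Set G)) ∧
      ∃ s ∈ M, ∃ t ∈ M, orderOf s = 2 ∧ orderOf t = 2 ∧ s ≠ t := by
  classical
  haveI : Nontrivial G := by
    by_contra h
    rw [not_nontrivial_iff_subsingleton] at h
    exact hns inferInstance
  obtain ⟨t, -, ht⟩ := normal_even hG hS hns ⊤ top_ne_bot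
  have ht1 : t ≠ 1 := fun e => by rw [e, orderOf_one] at ht; norm_num at ht
  obtain ⟨M, hM, htM⟩ := exists_comp hS hG ht1
  set N := normalizer (M : Set G) with hN
  have hNtop : N ≠ ⊤ := by
    intro e
    haveI : M.Normal := normalizer_eq_top_iff.1 e
    obtain ⟨z, hzM, hz1, hz⟩ := hM.central
    have h := abelian_normal_eq_bot hG hS hns ((center M).map M.subtype) (by
      rintro _ ⟨a, ha, rfl⟩ _ ⟨b, hb, rfl⟩
      rw [← map_mul, mem_center_iff.1 hb a, map_mul])
    rw [map_eq_bot_iff_of_injective _ M.subtype_injective] at h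
    refine hz1 (congrArg Subtype.val ((mem_bot (G := M)).1 (h ▸ ?_) : (⟨z, hzM⟩ : M) = 1))
    exact mem_center_iff.2 fun m => Subtype.ext (hz m m.2)
  have heven : Even (Nat.card N) := H65.even_card_of_mem (le_normalizer htM) ht
  have h2M : 2 ∣ Nat.card M := ht ▸ Subgroup.orderOf_dvd_natCard M htM
  have hse : Cfsg.IsStronglyEmbedded N := by
    rw [H65.se_iff hNtop heven]
    intro s g hs hsN hg
    have hs1 : s ≠ 1 := fun e => by rw [e, orderOf_one] at hs; norm_num at hs
    have hsM := mem_of_dvd hG hS hM hsN (hs ▸ h2M)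
    have hgM := mem_of_dvd hG hS hM hg (by
      rw [show g⁻¹ * s * g = MulAut.conj g⁻¹ s by simp, MulEquiv.orderOf_eq, hs]
      exact h2M)
    have := hM.mem_normalizer (g := g⁻¹) hsM hs1 (by simpa using hgM)
    exact inv_mem_iff.1 this
  refine ⟨M, hM, ⟨t, htM, ht⟩, hse, ?_⟩
  by_contra hone
  push Not at hone
  -- a unique involution is isolated
  have hiso : Cfsg.IsIsolatedInvolution t := ⟨ht, fun g hg =>
    (hone t htM (g * t * g⁻¹) (hM.cent t htM ht1 (mem_cent.2 hg.eq.symm)) ht
      ((MulEquiv.orderOf_eq (MulAut.conj g) t).trans ht)).symm⟩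
  haveI := H1.pPrimeCore_characteristic 2 G
  have hcore : Cfsg.pPrimeCore 2 G = ⊥ := by
    by_contra hne
    obtain ⟨x, hx, hx2⟩ := normal_even hG hS hns _ hne
    have hc := H1.card_pPrimeCore_coprime 2 G
    have hd : orderOf x ∣ Nat.card (Cfsg.pPrimeCore 2 G) := Subgroup.orderOf_dvd_natCard _ hx
    rw [hx2] at hd
    exact Nat.prime_two.coprime_iff_not_dvd.1 hc.symm hd
  have hc : ∀ g : G, g * t = t * g := fun g => by
    have := H85.zStar hiso g
    rw [hcore, mem_bot] at this
    exact (mul_inv_eq_iff_eq_mul.1 (mul_inv_eq_one.1 this)).symm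
  haveI : Group.IsNilpotent G := nilpotent_of_center hG ht1 hc
  exact hns inferInstance

end H11.CTI
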