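import Cfsg.Agent.H11.CTI.NonSolv

/-!
The action on the cosets of the normaliser of the component containing the involutions: doubly
transitive, the component regular off the base point, two-point stabilisers of order `I`.
-/

set_option autoImplicit false
set_option linter.style.haveILetI false
set_option linter.unusedSectionVars false

namespace H11.CTI

open Subgroup

universe u

variable {G : Type u} [Group G] [Finite G]

/-- The working hypotheses. -/
structure Even' (M : Subgroup G) : Prop where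
  hall : ∀ g ∈ normalizer (M : Set G), orderOf g ∣ Nat.card M → g ∈ M
  even : ∀ K : Subgroup G, K.Normal → K ≠ ⊥ → ∃ t ∈ K, orderOf t = 2
  comp : IsComp M
  invol : ∃ t ∈ M, orderOf t = 2
  se : Cfsg.IsStronglyEmbedded (normalizer (M : Set G))
  two : ∃ s ∈ M, ∃ t ∈ M, orderOf s = 2 ∧ orderOf t = 2 ∧ s ≠ t

namespace Even'

variable {M : Subgroup G} (h : Even' M)

/-- The two-point stabiliser. -/
abbrev D (M : Subgroup G) (u : G) : Subgroup G :=
  normalizer (M : Set G) ⊓ (normalizer (M : Set G)).map (MulAut.conj u).toMonoidHom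

include h

theorem mem_D {u d : G} :
    d ∈ D M u ↔ d ∈ normalizer (M : Set G) ∧ u⁻¹ * d * u ∈ normalizer (M : Set G) :=
  H65.mem_inf_conj

theorem invol_mem {s : G} (hs : orderOf s = 2) (hsN : s ∈ normalizer (M : Set G)) : s ∈ M := by
  obtain ⟨t, ht, ht2⟩ := h.invol
  exact h.hall _ hsN (hs ▸ ht2 ▸ Subgroup.orderOf_dvd_natCard M ht)

theorem conj_mem_N {g m : G} (hm : m ∈ M) (hm1 : m ≠ 1)
    (hg : g⁻¹ * m * g ∈ normalizer (M : Set G)) : g ∈ normalizer (M : Set G) := by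
  have h1 : g⁻¹ * m * g ∈ M := h.hall _ hg (by
    rw [show g⁻¹ * m * g = MulAut.conj g⁻¹ m by simp, MulEquiv.orderOf_eq]
    exact Subgroup.orderOf_dvd_natCard M hm)
  exact inv_mem_iff.1 (h.comp.mem_normalizer (g := g⁻¹) hm hm1 (by simpa using h1))

theorem eq_one_of_mem {u m : G} (hu : u ∉ normalizer (M : Set G)) (hm : m ∈ M) (hmD : m ∈ D M u) :
    m = 1 := by
  by_contra h1
  exact hu (h.conj_mem_N hm h1 (h.mem_D.1 hmD).2)

theorem exists_invol : ∃ s ∈ M, orderOf s = 2 := h.invol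

theorem conj_invol_mem {g s : G} (hg : g ∈ normalizer (M : Set G)) (hs : s ∈ M) :
    g * s * g⁻¹ ∈ M := (mem_normalizer_iff.1 hg s).1 hs

theorem D_props {u : G} (hu : orderOf u = 2) (huN : u ∉ normalizer (M : Set G)) :
    (∀ d ∈ D M u, u * d * u⁻¹ = d⁻¹) ∧
    (∀ s t : G, s ∈ M → orderOf s = 2 → t ∈ M → orderOf t = 2 →
      ∃ d ∈ D M u, d * s * d⁻¹ = t) ∧
    (∀ s d d' : G, s ∈ M → orderOf s = 2 → d ∈ D M u → d' ∈ D M u →
      d * s * d⁻¹ = d' * s * d'⁻¹ → d = d') := by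
  have hinj : ∀ s d d' : G, s ∈ M → orderOf s = 2 → d ∈ D M u → d' ∈ D M u →
      d * s * d⁻¹ = d' * s * d'⁻¹ → d = d' := by
    intro s d d' hs hs2 hd hd' e
    have hc : d'⁻¹ * d ∈ centralizer ({s} : Set G) := mem_cent.2 (by
      calc d'⁻¹ * d * s = d'⁻¹ * (d * s * d⁻¹) * d := by group
        _ = d'⁻¹ * (d' * s * d'⁻¹) * d := by rw [e]
        _ = s * (d'⁻¹ * d) := by group)
    have := h.comp.cent s hs (fun e => by rw [e, orderOf_one] at hs2; norm_num at hs2) hc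
    exact (inv_mul_eq_one.1 (h.eq_one_of_mem huN this (mul_mem (inv_mem hd') hd))).symm
  refine ⟨fun d hd => ?_, fun s t hs hs2 ht ht2 => ?_, hinj⟩
  · obtain ⟨s, hs, hs2⟩ := h.exists_invol
    have hdN := (h.mem_D.1 hd).1
    obtain ⟨d', h1, h2, h3, h4⟩ := H67.exists_inverted_conj h.se hu huN hs2 (le_normalizer hs)
      (H67.invol_conj hs2 d) (le_normalizer (h.conj_invol_mem hdN hs))
    rw [hinj s d d' hs hs2 hd (h.mem_D.2 ⟨h1, h2⟩) h4.symm]
    exact h3
  · obtain ⟨d', h1, h2, -, h4⟩ := H67.exists_inverted_conj h.se hu huN hs2 (le_normalizer hs)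
      ht2 (le_normalizer ht)
    exact ⟨d', h.mem_D.2 ⟨h1, h2⟩, h4⟩

/-- The number of involutions of `M`. -/
theorem card_D {u : G} (hu : orderOf u = 2) (huN : u ∉ normalizer (M : Set G)) :
    Nat.card (D M u) = Nat.card {s : G // s ∈ M ∧ orderOf s = 2} := by
  obtain ⟨-, htrans, hinj⟩ := h.D_props hu huN
  obtain ⟨s, hs, hs2⟩ := h.exists_invol
  refine Nat.card_congr (Equiv.ofBijective (fun d => ⟨(d : G) * s * (d : G)⁻¹,
    h.conj_invol_mem (h.mem_D.1 d.2).1 hs, H67.invol_conj hs2 _⟩) ⟨fun d d' e => ?_, fun t => ?_⟩)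
  · exact Subtype.ext (hinj s d d' hs hs2 d.2 d'.2 (congrArg Subtype.val e))
  · obtain ⟨d, hd, e⟩ := htrans s t.1 hs hs2 t.2.1 t.2.2
    exact ⟨⟨d, hd⟩, Subtype.ext e⟩

theorem two_le_card_D {u : G} (hu : orderOf u = 2) (huN : u ∉ normalizer (M : Set G)) :
    2 ≤ Nat.card (D M u) := by
  rw [h.card_D hu huN]
  obtain ⟨s, hs, t, ht, hs2, ht2, hne⟩ := h.two
  haveI : Nontrivial {s : G // s ∈ M ∧ orderOf s = 2} :=
    ⟨⟨⟨s, hs, hs2⟩, ⟨t, ht, ht2⟩, fun e => hne (congrArg Subtype.val e)⟩⟩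
  exact Finite.one_lt_card

theorem odd_D {u d : G} (huN : u ∉ normalizer (M : Set G)) (hd : d ∈ D M u) :
    Odd (orderOf d) := by
  have := h.se.2.2 u huN
  exact this.of_dvd_nat (Subgroup.orderOf_dvd_natCard _ hd)

theorem commute_eq_one {u d m : G} (huN : u ∉ normalizer (M : Set G)) (hd : d ∈ D M u)
    (hm : m ∈ M) (hc : d * m = m * d) (hm1 : m ≠ 1) : d = 1 :=
  h.eq_one_of_mem huN (h.comp.cent m hm hm1 (mem_cent.2 hc)) hd

/-- `N = M D`. -/
theorem decomposition {u g : G} (hu : orderOf u = 2) (huN : u ∉ normalizer (M : Set G))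
    (hg : g ∈ normalizer (M : Set G)) : ∃ m ∈ M, ∃ d ∈ D M u, g = m * d := by
  obtain ⟨-, htrans, -⟩ := h.D_props hu huN
  obtain ⟨s, hs, hs2⟩ := h.exists_invol
  obtain ⟨d, hd, e⟩ := htrans s (g * s * g⁻¹) hs hs2 (h.conj_invol_mem hg hs) (H67.invol_conj hs2 g)
  have hc : d⁻¹ * g ∈ M := h.comp.cent s hs (fun e => by rw [e, orderOf_one] at hs2; norm_num at hs2)
    (mem_cent.2 (by
      calc d⁻¹ * g * s = d⁻¹ * (g * s * g⁻¹) * g := by group
        _ = d⁻¹ * (d * s * d⁻¹) * g := by rw [e]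
        _ = s * (d⁻¹ * g) := by group))
  exact ⟨d * (d⁻¹ * g) * d⁻¹, h.conj_invol_mem (h.mem_D.1 hd).1 hc, d, hd, by group⟩

theorem exists_rep {g : G} (hg : g ∉ normalizer (M : Set G)) :
    ∃ v : G, orderOf v = 2 ∧ g⁻¹ * v ∈ normalizer (M : Set G) ∧ v ∉ normalizer (M : Set G) := by
  obtain ⟨v, hv, hgv⟩ := H67.exists_involTo h.se hg
  refine ⟨v, hv, hgv, fun hv' => hg ?_⟩
  have := mul_mem hv' (inv_mem hgv)
  rwa [mul_inv_rev, inv_inv, mul_inv_cancel_left] at this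

/-- An element of `D` fixes two cosets only. -/
theorem fixed_two {u d g : G} (hu : orderOf u = 2) (huN : u ∉ normalizer (M : Set G))
    (hd : d ∈ D M u) (hd1 : d ≠ 1) (hfix : g⁻¹ * d * g ∈ normalizer (M : Set G))
    (hgN : g ∉ normalizer (M : Set G)) : u⁻¹ * g ∈ normalizer (M : Set G) := by
  set N := normalizer (M : Set G) with hN
  have hinv : ∀ w : G, orderOf w = 2 → w⁻¹ = w := fun w hw =>
    inv_eq_of_mul_eq_one_right (H67.invol_sq hw)
  obtain ⟨v, hv, hgv, hvN⟩ := h.exists_rep hgN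
  have huinv := hinv u hu
  have hvinv := hinv v hv
  have hdv : d ∈ D M v := by
    refine h.mem_D.2 ⟨(h.mem_D.1 hd).1, ?_⟩
    rw [show v⁻¹ * d * v = (g⁻¹ * v)⁻¹ * (g⁻¹ * d * g) * (g⁻¹ * v) by group]
    exact mul_mem (mul_mem (inv_mem hgv) hfix) hgv
  have hud := (h.D_props hu huN).1 d hd
  have hvd := (h.D_props hv hvN).1 d hdv
  by_cases hb : u * v ∈ N
  · rw [show u⁻¹ * g = (u * v) * (g⁻¹ * v)⁻¹ by rw [huinv]; group]
    exact mul_mem hb (inv_mem hgv)
  exfalso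
  -- a third involution interchanging the two other cosets
  have hud' : u * d⁻¹ * u⁻¹ = d := by
    have := congrArg (fun z => z⁻¹) hud
    simpa [mul_assoc] using this
  obtain ⟨w₀, hw₀, hbw, hw₀N⟩ := h.exists_rep hb
  have hdw : d⁻¹ ∈ D M w₀ := by
    refine h.mem_D.2 ⟨inv_mem (h.mem_D.1 hd).1, ?_⟩
    have h1 : (u * v)⁻¹ * d⁻¹ * (u * v) ∈ N := by
      rw [show (u * v)⁻¹ * d⁻¹ * (u * v) = v⁻¹ * (u⁻¹ * d⁻¹ * u) * v by group,
        show u⁻¹ * d⁻¹ * u = d by
          calc u⁻¹ * d⁻¹ * u = u * d⁻¹ * u⁻¹ := by rw [huinv]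
            _ = d := hud']
      exact (h.mem_D.1 hdv).2
    rw [show w₀⁻¹ * d⁻¹ * w₀ = ((u * v)⁻¹ * w₀)⁻¹ * ((u * v)⁻¹ * d⁻¹ * (u * v)) *
      ((u * v)⁻¹ * w₀) by group]
    exact mul_mem (mul_mem (inv_mem hbw) h1) hbw
  have hwd := (h.D_props hw₀ hw₀N).1 _ hdw
  rw [inv_inv] at hwd
  -- their product lies in `N` and inverts `d`
  set c := v * (u * w₀ * u) * u with hc
  have hcN : c ∈ N := by
    have h1 : w₀⁻¹ * (u * v) ∈ N := by
      have := inv_mem hbw
      rwa [mul_inv_rev, inv_inv] at this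
    rw [hinv w₀ hw₀] at h1
    have h2 : c = (w₀ * (u * v))⁻¹ := by
      rw [hc, mul_inv_rev, mul_inv_rev, huinv, hvinv, hinv w₀ hw₀,
        show v * (u * w₀ * u) * u = v * u * w₀ * (u * u) by group, H67.invol_sq hu, mul_one]
    rw [h2]
    exact inv_mem h1
  have hcd : c * d * c⁻¹ = d⁻¹ := by
    have hw₀d : w₀ * d * w₀⁻¹ = d⁻¹ := by
      have := congrArg (fun z => z⁻¹) hwd
      simpa [mul_assoc] using this
    rw [hc, show v * (u * w₀ * u) * u = v * u * w₀ by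
      rw [show v * (u * w₀ * u) * u = v * u * w₀ * (u * u) by group, H67.invol_sq hu, mul_one]]
    calc v * u * w₀ * d * (v * u * w₀)⁻¹ = v * (u * (w₀ * d * w₀⁻¹) * u⁻¹) * v⁻¹ := by group
      _ = d⁻¹ := by rw [hw₀d, hud', hvd]
  obtain ⟨m, hm, e, he, hce⟩ := h.decomposition hu huN hcN
  have hed : e * d * e⁻¹ = d := by
    have h1 := (h.D_props hu huN).1 _ (mul_mem he hd)
    have h2 : u * (e * d) * u⁻¹ = (u * e * u⁻¹) * (u * d * u⁻¹) := by group
    rw [h2, (h.D_props hu huN).1 e he, hud, mul_inv_rev] at h1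
    have h3 : e * d = d * e := by
      have := congrArg (fun z => z⁻¹) h1
      simpa [mul_inv_rev] using this.symm
    rw [h3, mul_inv_cancel_right]
  have hmd : m * d * m⁻¹ = d⁻¹ := by
    rw [hce] at hcd
    calc m * d * m⁻¹ = m * (e * d * e⁻¹) * m⁻¹ := by rw [hed]
      _ = m * e * d * (m * e)⁻¹ := by group
      _ = d⁻¹ := hcd
  have h4 : d⁻¹ * d⁻¹ ∈ M := by
    have h5 : m * (d * m⁻¹ * d⁻¹) ∈ M :=
      mul_mem hm (h.conj_invol_mem (h.mem_D.1 hd).1 (inv_mem hm))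
    rwa [show m * (d * m⁻¹ * d⁻¹) = m * d * m⁻¹ * d⁻¹ by group, hmd] at h5
  have h6 := h.eq_one_of_mem huN h4 (mul_mem (inv_mem hd) (inv_mem hd))
  rw [← mul_inv_rev, inv_eq_one, ← sq] at h6
  have h7 : orderOf d ∣ 2 := orderOf_dvd_of_pow_eq_one h6
  rcases (Nat.dvd_prime Nat.prime_two).1 h7 with h8 | h8
  · exact hd1 (orderOf_eq_one_iff.1 h8)
  · have := h.odd_D huN hd
    rw [h8] at this
    exact absurd this (by decide)

theorem semiregular {m g : G} (hm : m ∈ M) (hg : g ∉ normalizer (M : Set G))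
    (hfix : g⁻¹ * m * g ∈ normalizer (M : Set G)) : m = 1 := by
  by_contra h1
  exact hg (h.conj_mem_N hm h1 hfix)

omit h in
theorem smul_base_iff {d g : G} :
    d • (QuotientGroup.mk g : G ⧸ normalizer (M : Set G)) = QuotientGroup.mk g ↔
      g⁻¹ * d * g ∈ normalizer (M : Set G) :=
  H65.smul_coset_eq_iff

omit h in
theorem mk_ne_one_iff {g : G} :
    (QuotientGroup.mk g : G ⧸ normalizer (M : Set G)) ≠ QuotientGroup.mk 1 ↔
      g ∉ normalizer (M : Set G) := by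
  rw [ne_eq, QuotientGroup.eq, mul_one, inv_mem_iff]

theorem card_N {u : G} (hu : orderOf u = 2) (huN : u ∉ normalizer (M : Set G)) :
    Nat.card (normalizer (M : Set G)) = Nat.card M * Nat.card (D M u) := by
  rw [← Nat.card_prod]
  refine (Nat.card_congr (Equiv.ofBijective
    (fun p : M × D M u => (⟨(p.1 : G) * p.2, mul_mem (le_normalizer p.1.2)
      (h.mem_D.1 p.2.2).1⟩ : normalizer (M : Set G))) ⟨?_, ?_⟩)).symm
  · rintro ⟨a, b⟩ ⟨c, d⟩ e
    have e' : (a : G) * b = c * d := congrArg Subtype.val e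
    have h1 : (c : G)⁻¹ * a = d * (b : G)⁻¹ := by
      rw [eq_mul_inv_iff_mul_eq, mul_assoc, e', inv_mul_cancel_left]
    have h2 := h.eq_one_of_mem huN (mul_mem (inv_mem c.2) a.2) (h1 ▸ mul_mem d.2 (inv_mem b.2))
    have h3 : c = a := Subtype.ext (inv_mul_eq_one.1 h2)
    subst h3
    exact Prod.ext rfl (Subtype.ext (mul_left_cancel e'))
  · rintro ⟨g, hg⟩
    obtain ⟨m, hm, d, hd, rfl⟩ := h.decomposition hu huN hg
    exact ⟨(⟨m, hm⟩, ⟨d, hd⟩), rfl⟩

/-- `M` is transitive on the other cosets. -/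
theorem transitive {g₁ g₂ : G} (h₁ : g₁ ∉ normalizer (M : Set G)) (h₂ : g₂ ∉ normalizer (M : Set G)) :
    ∃ m ∈ M, m • (QuotientGroup.mk g₁ : G ⧸ normalizer (M : Set G)) = QuotientGroup.mk g₂ := by
  classical
  obtain ⟨u, hu, huN⟩ := H67.se_exists_invol_not_mem h.se
  set N := normalizer (M : Set G)
  set X' := {a : G ⧸ N // a ≠ QuotientGroup.mk 1}
  letI : Fintype X' := Fintype.ofFinite X'
  have hrep : ∀ a : X', ∃ v : G, orderOf v = 2 ∧ v ∉ N ∧ (QuotientGroup.mk v : G ⧸ N) = a.1 := by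
    intro a
    obtain ⟨g, hg⟩ := QuotientGroup.mk_surjective a.1
    have hgN : g ∉ N := fun h' => a.2 (hg.symm.trans (QuotientGroup.eq.mpr (by simpa using inv_mem h')))
    obtain ⟨v, hv, hgv, hvN⟩ := h.exists_rep hgN
    exact ⟨v, hv, hvN, by rw [← hg]; exact (QuotientGroup.eq.mpr hgv).symm⟩
  choose v hv hvN hvX using hrep
  set I := Nat.card (D M u) with hI
  have hI2 := h.two_le_card_D hu huN
  let P := Σ a : X', {d : D M (v a) // d ≠ 1}
  let E := {g : N // (g : G) ∉ M}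
  let f : P → E := fun p => ⟨⟨p.2.1.1, (h.mem_D.1 p.2.1.2).1⟩, fun hM =>
    p.2.2 (Subtype.ext (h.eq_one_of_mem (hvN p.1) hM p.2.1.2))⟩
  have hf : Function.Injective f := by
    rintro ⟨a, d, hd1⟩ ⟨b, d', hd1'⟩ e
    have e' : (d : G) = (d' : G) := congrArg (fun w : E => ((w : N) : G)) e
    have hdb : (v b)⁻¹ * (d : G) * v b ∈ N := e' ▸ (h.mem_D.1 d'.2).2
    have hab : a = b := Subtype.ext (by
      rw [← hvX a, ← hvX b]
      exact QuotientGroup.eq.mpr
        (h.fixed_two (hv a) (hvN a) d.2 (fun e => hd1 (Subtype.ext e)) hdb (hvN b)))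
    subst hab
    obtain rfl : d = d' := Subtype.ext e'
    rfl
  have hcard := Nat.card_le_card_of_injective f hf
  have hP : Nat.card P = Nat.card X' * (I - 1) := by
    rw [Nat.card_sigma, Nat.card_eq_fintype_card (α := X'),
      Finset.sum_const_nat (m := I - 1), Finset.card_univ]
    intro a _
    letI := Fintype.ofFinite (D M (v a))
    rw [Nat.card_eq_fintype_card, Fintype.card_subtype_compl, Fintype.card_subtype_eq,
      ← Nat.card_eq_fintype_card, h.card_D (hv a) (hvN a), hI, h.card_D hu huN]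
  have hE : Nat.card E = Nat.card M * (I - 1) := by
    letI := Fintype.ofFinite N
    rw [Nat.card_eq_fintype_card, Fintype.card_subtype_compl, ← Nat.card_eq_fintype_card,
      ← Nat.card_eq_fintype_card, h.card_N hu huN]
    have e : Nat.card {g : N // (g : G) ∈ M} = Nat.card M :=
      Nat.card_congr (Subgroup.subgroupOfEquivOfLe le_normalizer).toEquiv
    rw [e, Nat.mul_sub_one]
  rw [hP, hE] at hcard
  have hX'le : Nat.card X' ≤ Nat.card M := Nat.le_of_mul_le_mul_right hcard (by omega)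
  let a₁ : G ⧸ N := QuotientGroup.mk g₁
  have hmem : ∀ m : M, (m : G) • a₁ ≠ (QuotientGroup.mk 1 : G ⧸ N) := by
    intro m e
    apply h₁
    have := QuotientGroup.eq.mp e.symm
    simp only [inv_one, one_mul, smul_eq_mul] at this
    have := mul_mem (inv_mem (le_normalizer m.2)) this
    rwa [inv_mul_cancel_left] at this
  let o : M → X' := fun m => ⟨(m : G) • a₁, hmem m⟩
  have ho : Function.Injective o := by
    intro m m' e
    have e' : (m : G) • a₁ = (m' : G) • a₁ := congrArg Subtype.val e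
    have h3 : ((m' : G)⁻¹ * (m : G)) • a₁ = a₁ := by rw [mul_smul, e', inv_smul_smul]
    exact Subtype.ext (inv_mul_eq_one.mp
      (h.semiregular (mul_mem (inv_mem m'.2) m.2) h₁ (smul_base_iff.1 h3))).symm
  obtain ⟨m, hm⟩ := (ho.bijective_of_nat_card_le hX'le).2 ⟨QuotientGroup.mk g₂, mk_ne_one_iff.2 h₂⟩
  exact ⟨m, m.2, congrArg Subtype.val hm⟩

theorem regular (a b : G ⧸ normalizer (M : Set G)) (ha : a ≠ QuotientGroup.mk 1)
    (hb : b ≠ QuotientGroup.mk 1) : ∃! m : M, (m : G) • a = b := by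
  obtain ⟨g, rfl⟩ := QuotientGroup.mk_surjective a
  obtain ⟨g', rfl⟩ := QuotientGroup.mk_surjective b
  rw [mk_ne_one_iff] at ha hb
  obtain ⟨m, hm, e⟩ := h.transitive ha hb
  refine ⟨⟨m, hm⟩, e, fun m' e' => ?_⟩
  have h3 : (m⁻¹ * (m' : G)) • (QuotientGroup.mk g : G ⧸ normalizer (M : Set G)) =
      QuotientGroup.mk g := by
    rw [mul_smul, e', ← e, inv_smul_smul]
  exact Subtype.ext (inv_mul_eq_one.mp
    (h.semiregular (mul_mem (inv_mem hm) m'.2) ha (smul_base_iff.1 h3))).symm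

theorem normal_form {u : G} (huN : u ∉ normalizer (M : Set G))
    {x₁ x₂ : G ⧸ normalizer (M : Set G)} (hne : x₁ ≠ x₂) :
    ∃ g : G, g • x₁ = QuotientGroup.mk 1 ∧ g • x₂ = QuotientGroup.mk u := by
  obtain ⟨g₁, rfl⟩ := QuotientGroup.mk_surjective x₁
  have h1 : g₁⁻¹ • (QuotientGroup.mk g₁ : G ⧸ normalizer (M : Set G)) = QuotientGroup.mk 1 := by
    rw [MulAction.Quotient.smul_coe, smul_eq_mul, inv_mul_cancel]
  obtain ⟨g₂, hg₂⟩ := QuotientGroup.mk_surjective (g₁⁻¹ • x₂)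
  have hne2 : g₂ ∉ normalizer (M : Set G) := by
    rw [← mk_ne_one_iff, hg₂]
    intro e
    exact hne (smul_left_cancel g₁⁻¹ (h1.trans e.symm))
  obtain ⟨m, hm, e⟩ := h.transitive hne2 huN
  refine ⟨m * g₁⁻¹, ?_, by rw [mul_smul, ← hg₂, e]⟩
  rw [mul_smul, h1]
  exact smul_base_iff.2 (by simpa using le_normalizer hm)

theorem fix_three {g : G} {x₁ x₂ x₃ : G ⧸ normalizer (M : Set G)} (h12 : x₁ ≠ x₂) (h13 : x₁ ≠ x₃)
    (h23 : x₂ ≠ x₃) (e₁ : g • x₁ = x₁) (e₂ : g • x₂ = x₂) (e₃ : g • x₃ = x₃) : g = 1 := by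
  obtain ⟨u, hu, huN⟩ := H67.se_exists_invol_not_mem h.se
  obtain ⟨a, ha₁, ha₂⟩ := h.normal_form huN h12
  set g' := a * g * a⁻¹ with hg'
  have f : ∀ w : G ⧸ normalizer (M : Set G), g • w = w → g' • (a • w) = a • w := fun w hw => by
    rw [hg', mul_smul, mul_smul, inv_smul_smul, hw]
  have f1 := f _ e₁
  have f2 := f _ e₂
  have f3 := f _ e₃
  rw [ha₁] at f1
  rw [ha₂] at f2
  have hD : g' ∈ D M u := h.mem_D.2 ⟨by simpa using smul_base_iff.1 f1, smul_base_iff.1 f2⟩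
  obtain ⟨k, hk⟩ := QuotientGroup.mk_surjective (a • x₃)
  rw [← hk] at f3
  by_contra hg1
  have hg'1 : g' ≠ 1 := fun e => hg1 (conj_eq_one_iff.1 (hg' ▸ e))
  have hkN : k ∉ normalizer (M : Set G) := fun hh => h13 (smul_left_cancel a
    (ha₁.trans ((QuotientGroup.eq.mpr (by simpa using hh)).trans hk)))
  exact h23 (smul_left_cancel a (ha₂.trans ((QuotientGroup.eq.mpr
    (h.fixed_two hu huN hD hg'1 (smul_base_iff.1 f3) hkN)).trans hk)))

end Even'

end H11.CTI
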