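import Cfsg.Agent.H11.CTI.Component
import Cfsg.Agent.H2.FrobeniusBasic
import Cfsg.Agent.H2.SolvableComplement

/-!
Solvable groups with TI centralisers.
-/

set_option autoImplicit false
set_option linter.style.haveILetI false
set_option linter.unusedSectionVars false

namespace H11.CTI

open Subgroup
open scoped commutatorElement

universe u

/-- Distinct Sylow subgroups meet trivially. -/
abbrev SylTI (G : Type u) [Group G] : Prop :=
  ∀ (p : ℕ) [Fact p.Prime] (P Q : Sylow p G), P ≠ Q → (P : Subgroup G) ⊓ (Q : Subgroup G) = ⊥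

/-- A non-nilpotent group with an abelian normal subgroup has a normal component. -/
theorem exists_normal_comp {G : Type u} [Group G] [Finite G] (hG : TIC G) (hS : SylTI G)
    (hnil : ¬ Group.IsNilpotent G) (A : Subgroup G) [A.Normal] (hA : A ≠ ⊥)
    (hAc : ∀ a ∈ A, ∀ b ∈ A, a * b = b * a) :
    ∃ M : Subgroup G, IsComp M ∧ M.Normal ∧ M ≠ ⊥ ∧ M ≠ ⊤ ∧
      (Nat.card M).Coprime M.index := by
  obtain ⟨a, haA, ha1⟩ := (Subgroup.bot_or_exists_ne_one A).resolve_left hA
  obtain ⟨M, hM, haM⟩ := exists_comp hS hG ha1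
  have hAM : A ≤ M := fun b hb => hM.cent a haM ha1 (mem_cent.2 (hAc b hb a haA))
  have hn : M.Normal := normalizer_eq_top_iff.1 (eq_top_iff.2 fun g _ =>
    hM.mem_normalizer haM ha1 (hAM (Subgroup.Normal.conj_mem inferInstance a haA g)))
  refine ⟨M, hM, hn, fun e => ha1 (by rwa [e, mem_bot] at haM), fun e => ?_, ?_⟩
  · apply hnil
    haveI := hM.nilpotent hG
    subst e
    exact Group.isNilpotent_top.1 inferInstance
  · refine Nat.coprime_of_dvd fun p hp h1 h2 => ?_
    haveI := Fact.mk hp
    obtain ⟨⟨x, hxM⟩, hx⟩ := exists_prime_orderOf_dvd_card' p h1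
    rw [orderOf_mk] at hx
    obtain ⟨P, hP⟩ := IsPGroup.exists_le_sylow (P := zpowers x) (p := p)
      (IsPGroup.of_card (n := 1) (by rw [Nat.card_zpowers, hx, pow_one]))
    have := hM.sylow_le hS hG P hxM (hP (mem_zpowers x))
      (fun e => hp.one_lt.ne' (by rw [← hx, e, orderOf_one]))
    exact P.not_dvd_index (h2.trans (index_dvd_of_le this))

/-- A solvable non-trivial group has a non-trivial abelian normal subgroup. -/
theorem exists_abelian_normal {G : Type u} [Group G] [Group.IsSolvable G] [Nontrivial G] :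
    ∃ A : Subgroup G, A.Normal ∧ A ≠ ⊥ ∧ ∀ a ∈ A, ∀ b ∈ A, a * b = b * a := by
  classical
  obtain ⟨n, hn⟩ := (Group.isSolvable_def G).1 inferInstance
  have hex : ∃ n, derivedSeries G n = ⊥ := ⟨n, hn⟩
  have h0 : Nat.find hex ≠ 0 := fun h => by
    have := Nat.find_spec hex
    rw [h, derivedSeries_zero] at this
    exact top_ne_bot this
  obtain ⟨m, hm⟩ := Nat.exists_eq_succ_of_ne_zero h0
  refine ⟨derivedSeries G m, derivedSeries_normal G m, Nat.find_min hex (by omega), fun a ha b hb => ?_⟩
  have h1 : ⁅a, b⁆ ∈ derivedSeries G (m + 1) := by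
    rw [derivedSeries_succ]
    exact commutator_mem_commutator ha hb
  rw [show m + 1 = Nat.find hex from hm.symm, Nat.find_spec hex, mem_bot] at h1
  exact commutatorElement_eq_one_iff_mul_comm.1 h1

/-- A Frobenius complement with TI centralisers is nilpotent. -/
theorem fc_nilpotent {H : Type u} [Group H] [Finite H] (hG : TIC H) (hS : SylTI H)
    (hfc : H28.FCInt H) [Group.IsSolvable H] : Group.IsNilpotent H := by
  classical
  by_contra hnil
  haveI : Nontrivial H := by
    by_contra h
    rw [not_nontrivial_iff_subsingleton] at h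
    exact hnil inferInstance
  obtain ⟨A, hA, hA1, hAc⟩ := exists_abelian_normal (G := H)
  obtain ⟨K, hK, hKn, hK1, hKtop, hcop⟩ := exists_normal_comp hG hS hnil A hA1 hAc
  obtain ⟨L, hL⟩ := exists_right_complement'_of_coprime hcop
  set q := (Nat.card K).minFac with hq
  have hqp : q.Prime := Nat.minFac_prime (fun e => hK1 (card_eq_one.1 e))
  haveI := Fact.mk hqp
  obtain ⟨⟨k, hkK⟩, hk⟩ := exists_prime_orderOf_dvd_card' q (Nat.minFac_dvd (Nat.card K))
  rw [orderOf_mk] at hk
  have hk1 : k ≠ 1 := fun e => hqp.one_lt.ne' (by rw [← hk, e, orderOf_one])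
  set r := (Nat.card L).minFac with hr
  have hL1 : L ≠ ⊥ := fun e => hKtop (by
    subst e
    exact isComplement'_bot_right.1 hL)
  have hrp : r.Prime := Nat.minFac_prime (fun e => hL1 (card_eq_one.1 e))
  haveI := Fact.mk hrp
  obtain ⟨⟨l, hlL⟩, hl⟩ := exists_prime_orderOf_dvd_card' r (Nat.minFac_dvd (Nat.card L))
  rw [orderOf_mk] at hl
  have hrq : r ≠ q := by
    intro e
    have h1 : q ∣ Nat.card L := e ▸ Nat.minFac_dvd _
    rw [← hL.symm.index_eq_card] at h1
    exact hqp.ne_one (Nat.eq_one_of_dvd_coprimes hcop (Nat.minFac_dvd _) h1)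
  -- the subgroup of order `q` of `K` is normal
  haveI := hKn
  haveI := hK.nilpotent hG
  let S : Sylow q K := default
  have hmemS : ∀ x : K, orderOf x = q → x ∈ (S : Subgroup K) := by
    intro x hx
    obtain ⟨T, hT⟩ := IsPGroup.exists_le_sylow (P := zpowers x) (p := q)
      (IsPGroup.of_card (n := 1) (by rw [Nat.card_zpowers, hx, pow_one]))
    haveI := Sylow.unique_of_normal S inferInstance
    exact Subsingleton.elim T S ▸ hT (mem_zpowers x)
  have hlk : l * k * l⁻¹ ∈ zpowers k := by
    have hm : l * k * l⁻¹ ∈ K := hKn.conj_mem k hkK l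
    have ho : orderOf (l * k * l⁻¹) = q := by
      rw [← hk]
      exact MulEquiv.orderOf_eq (MulAut.conj l) k
    let P : Subgroup H := (S : Subgroup K).map K.subtype
    have hP : IsPGroup q P := S.isPGroup'.map _
    have hkP : k ∈ P := ⟨⟨k, hkK⟩, hmemS _ (by rwa [orderOf_mk]), rfl⟩
    have hcP : l * k * l⁻¹ ∈ P := ⟨⟨_, hm⟩, hmemS _ (by rwa [orderOf_mk]), rfl⟩
    have hu := H2.fcInt_unique_subgroup hfc hP (zpowers ⟨k, hkP⟩) (zpowers ⟨_, hcP⟩)
      (by rw [Nat.card_zpowers, orderOf_mk, hk]) (by rw [Nat.card_zpowers, orderOf_mk, ho])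
    obtain ⟨i, hi⟩ := mem_zpowers_iff.1
      (hu ▸ mem_zpowers (⟨_, hcP⟩ : P) : (⟨_, hcP⟩ : P) ∈ zpowers (⟨k, hkP⟩ : P))
    exact ⟨i, congrArg Subtype.val hi⟩
  have hc := H2.fcInt_commute hfc hrp hqp hrq hk hl hlk
  have : l ∈ K := hK.cent k hkK hk1 (mem_cent.2 hc)
  have h1 : l = 1 := H2.complement_inf hL this hlL
  exact hrp.one_lt.ne' (by rw [← hl, h1, orderOf_one])

/-- The structure of a Frobenius complement with TI centralisers. -/
theorem fc_structure {H : Type u} [Group H] [Finite H] (hG : TIC H) (hS : SylTI H)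
    (hfc : H28.FCInt H) [Group.IsSolvable H] :
    IsCyclic H ∨ ∃ m : ℕ, Odd m ∧ Nonempty (H ≃* Multiplicative (ZMod m) × QuaternionGroup 2) := by
  classical
  haveI := fc_nilpotent hG hS hfc
  haveI : Fact (Nat.Prime 2) := ⟨Nat.prime_two⟩
  rcases subsingleton_or_nontrivial H with h | h
  · exact Or.inl inferInstance
  -- conjugates commute
  haveI : Nontrivial (center H) := (Subgroup.nontrivial_iff_ne_bot _).2 (Group.IsNilpotent.center_ne_bot _)
  obtain ⟨⟨z, hz⟩, hz1⟩ := exists_ne (1 : center H)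
  have hcc := commute_conj_of_center hG (z := z) (fun e => hz1 (Subtype.ext e))
    (fun g => mem_center_iff.1 hz g)
  let S : Sylow 2 H := default
  rcases H2.fcInt_isCyclic_or_quaternion hfc S.isPGroup' with hc | ⟨n, ⟨e⟩⟩
  · refine Or.inl ?_
    haveI : IsZGroup H := ⟨fun p hp P => by
      haveI := Fact.mk hp
      by_cases hp2 : p = 2
      · subst hp2
        exact isCyclic_of_surjective (S.equiv P).toMonoidHom (S.equiv P).surjective
      · exact H2.fcInt_isCyclic_sylow hfc hp2 P.isPGroup'⟩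
    infer_instance
  by_cases hn0 : n = 0
  · -- the cyclic group of order four
    subst hn0
    refine Or.inl ?_
    have hc : IsCyclic (S : Subgroup H) := by
      haveI : IsCyclic (QuaternionGroup (2 ^ 0)) :=
        isCyclic_of_orderOf_eq_card (QuaternionGroup.xa 0)
          (by rw [QuaternionGroup.orderOf_xa, Nat.card_eq_fintype_card, QuaternionGroup.card]; norm_num)
      exact isCyclic_of_surjective e.symm.toMonoidHom e.symm.surjective
    haveI : IsZGroup H := ⟨fun p hp P => by
      haveI := Fact.mk hp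
      by_cases hp2 : p = 2
      · subst hp2
        exact isCyclic_of_surjective (S.equiv P).toMonoidHom (S.equiv P).surjective
      · exact H2.fcInt_isCyclic_sylow hfc hp2 P.isPGroup'⟩
    infer_instance
  have hn : n = 1 := by
    by_contra hne
    obtain ⟨k, rfl⟩ : ∃ k, n = k + 2 := ⟨n - 2, by omega⟩
    let x : S := e.symm (QuaternionGroup.xa 0)
    let a : S := e.symm (QuaternionGroup.a 1)
    have h1 : Commute (a * x * a⁻¹) x := Subtype.ext (hcc (a : H) (x : H)).eq
    have h2 := h1.map e.toMonoidHom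
    simp only [x, a, MulEquiv.coe_toMonoidHom, map_mul, map_inv, MulEquiv.apply_symm_apply,
      commute_iff_eq, QuaternionGroup.a_mul_xa] at h2
    rw [show ((QuaternionGroup.a 1 : QuaternionGroup (2 ^ (k + 2))))⁻¹ = QuaternionGroup.a (-1) from rfl,
      QuaternionGroup.xa_mul_a, QuaternionGroup.xa_mul_xa, QuaternionGroup.xa_mul_xa,
      QuaternionGroup.a.injEq] at h2
    have h3 : (((4 : ℕ) : ZMod (2 * 2 ^ (k + 2)))) = 0 := by
      push_cast
      linear_combination h2
    rw [ZMod.natCast_eq_zero_iff] at h3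
    have := Nat.le_of_dvd (by norm_num) h3
    have : 0 < 2 ^ k := by positivity
    rw [pow_add] at *
    omega
  subst hn
  right
  haveI : (S : Subgroup H).Normal := inferInstance
  obtain ⟨O, hO⟩ := exists_right_complement'_of_coprime (S.card_coprime_index)
  have hcopO : (Nat.card O).Coprime (Nat.card (S : Subgroup H)) := by
    rw [← hO.symm.index_eq_card]
    exact (S.card_coprime_index).symm
  haveI : IsZGroup O := ⟨fun p hp P => by
    haveI := Fact.mk hp
    have hp2 : p ≠ 2 ∨ (P : Subgroup O) = ⊥ := by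
      by_cases hp2 : p = 2
      · right
        subst hp2
        refine card_eq_one.1 (Nat.eq_one_of_dvd_coprimes hcopO (card_subgroup_dvd_card _) ?_)
        obtain ⟨i, hi⟩ := P.isPGroup'.exists_card_eq
        have hS2 : Nat.card (S : Subgroup H) = 2 ^ (Nat.card H).factorization 2 := S.card_eq_multiplicity
        rw [hS2, hi]
        refine Nat.pow_dvd_pow 2 ?_
        rw [← Nat.Prime.pow_dvd_iff_le_factorization Nat.prime_two Nat.card_pos.ne', ← hi]
        exact (card_subgroup_dvd_card _).trans (card_subgroup_dvd_card _)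
      · exact Or.inl hp2
    rcases hp2 with hp2 | hbot
    · haveI := H2.fcInt_isCyclic_sylow hfc hp2 (P.isPGroup'.map O.subtype)
      exact isCyclic_of_surjective
        ((P : Subgroup O).equivMapOfInjective O.subtype O.subtype_injective).symm.toMonoidHom
        (MulEquiv.surjective _)
    · rw [hbot]; infer_instance⟩
  have hcommOS : ∀ o : O, ∀ s : (S : Subgroup H), Commute (o : H) (s : H) := by
    rintro ⟨o, ho⟩ ⟨s, hs⟩
    set c := o * s * o⁻¹ * s⁻¹ with hc
    have hcS : c ∈ (S : Subgroup H) :=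
      mul_mem (Subgroup.Normal.conj_mem inferInstance s hs o) (inv_mem hs)
    have hco : Commute c o := by
      have h1 : Commute (s * o * s⁻¹) o := hcc s o
      have h2 : Commute (o * (s * o * s⁻¹)⁻¹) o := (Commute.refl o).mul_left h1.inv_left
      rw [hc, show o * s * o⁻¹ * s⁻¹ = o * (s * o * s⁻¹)⁻¹ by group]
      exact h2
    have hk : ∀ k : ℕ, o ^ k * s * (o ^ k)⁻¹ = c ^ k * s := by
      intro k
      induction k with
      | zero => simp
      | succ k ih =>
        rw [pow_succ' o, show o * o ^ k * s * (o * o ^ k)⁻¹ = o * (o ^ k * s * (o ^ k)⁻¹) * o⁻¹ by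
          group, ih, pow_succ c]
        calc o * (c ^ k * s) * o⁻¹ = o * c ^ k * s * o⁻¹ := by group
          _ = c ^ k * o * s * o⁻¹ := by rw [(hco.pow_left k).eq]
          _ = c ^ k * c * s := by rw [hc]; group
    have h1 := hk (Nat.card O)
    have ho1 : o ^ Nat.card O = 1 :=
      congrArg Subtype.val (pow_card_eq_one' (x := (⟨o, ho⟩ : O)))
    rw [ho1, one_mul, inv_one, mul_one, eq_comm, mul_eq_right] at h1
    have hc1 : c = 1 := orderOf_eq_one_iff.1 (Nat.eq_one_of_dvd_coprimes hcopO
      (orderOf_dvd_of_pow_eq_one h1) (Subgroup.orderOf_dvd_natCard _ hcS))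
    exact mul_inv_eq_iff_eq_mul.1 (mul_inv_eq_one.1 hc1)
  let f : O × (S : Subgroup H) →* H :=
    MonoidHom.noncommCoprod O.subtype (S : Subgroup H).subtype hcommOS
  have hf : Function.Bijective f := hO.symm
  refine ⟨Nat.card O, ?_, ⟨(MulEquiv.ofBijective f hf).symm.trans
    (MulEquiv.prodCongr (zmodCyclicMulEquiv inferInstance).symm e)⟩⟩
  rw [← Nat.not_even_iff_odd, even_iff_two_dvd]
  intro h2
  refine Nat.prime_two.ne_one (Nat.eq_one_of_dvd_coprimes hcopO h2 ?_)
  rw [Nat.card_congr e.toEquiv, Nat.card_eq_fintype_card, QuaternionGroup.card]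
  norm_num

/-- A solvable group with TI centralisers. -/
theorem solvable_case {G : Type u} [Group G] [Finite G] (hG : TIC G)
    (hS : ∀ H : Subgroup G, SylTI H) (hS' : SylTI G) [Group.IsSolvable G]
    (hnil : ¬ Group.IsNilpotent G) :
    ∃ H : Subgroup G, Cfsg.IsFrobeniusComplement H ∧
      (IsCyclic H ∨ ∃ m : ℕ, Odd m ∧ Nonempty (H ≃* Multiplicative (ZMod m) × QuaternionGroup 2)) := by
  haveI : Nontrivial G := by
    by_contra h
    rw [not_nontrivial_iff_subsingleton] at h
    exact hnil inferInstance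
  obtain ⟨A, hA, hA1, hAc⟩ := exists_abelian_normal (G := G)
  obtain ⟨M, hM, hMn, hM1, hMtop, hcop⟩ := exists_normal_comp hG hS' hnil A hA1 hAc
  haveI := hMn
  obtain ⟨H, hH⟩ := exists_right_complement'_of_coprime hcop
  have hH1 : H ≠ ⊥ := fun e => hMtop (by
    subst e
    exact isComplement'_bot_right.1 hH)
  have hfr : Cfsg.IsFrobeniusComplement H := H2.frobenius_of_fpf hH hM1 hH1 fun h hh hne => by
    rw [eq_bot_iff]
    rintro m ⟨hm, hmc⟩
    rw [mem_bot]
    by_contra hm1
    exact hne (H2.complement_inf hH (hM.cent m hm hm1 (mem_cent_symm hmc)) hh)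
  exact ⟨H, hfr, fc_structure (hG.subgroup H) (hS H) (H28.fcInt_of_isFC hfr)⟩

end H11.CTI
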